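import Groth.Agent.UnipStabLib.Twisted
import Groth.Agent.UnipCountLib.Compat

/-!
# Rational torsor data as pairs at Frobenius
-/

set_option autoImplicit false
set_option linter.all false
set_option backward.isDefEq.respectTransparency false
set_option backward.isDefEq.respectTransparency.types false
set_option maxHeartbeats 1000000
set_option synthInstance.maxHeartbeats 400000

noncomputable section

universe u

open CategoryTheory CategoryTheory.Limits MonoidalCategory CartesianMonoidalCategory MonObj AlgebraicGeometry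
open Groth.Agent

attribute [-instance] CategoryTheory.Hom.commGroup

namespace UnipStabLib

variable {k : Type u} [Field k] {kb : Type u} [Field kb] [Algebra k kb]
variable {G X : Over (Spec (CommRingCat.of k))} [GrpObj G] (aX : AlgGrp.Action G X)

theorem act_mul {T : Over (Spec (CommRingCat.of k))} (g g' : T ⟶ G) (x : T ⟶ X) :
    lift (g * g') x ≫ aX.act = lift g (lift g' x ≫ aX.act) ≫ aX.act := by
  have h := congrArg (lift (lift g g') x ≫ ·) aX.mul_act
  simp only [← Category.assoc, lift_whiskerRight, lift_lift_associator_hom, lift_whiskerLeft] at h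
  exact h

theorem act_one {T : Over (Spec (CommRingCat.of k))} (x : T ⟶ X) : lift (1 : T ⟶ G) x ≫ aX.act = x := by
  have h := congrArg (lift (toUnit T) x ≫ ·) aX.one_act
  simp only [← Category.assoc, lift_whiskerRight] at h
  rw [Hom.one_def, h]
  simp

theorem smul_act {L : Type u} [Field L] [Algebra k L] (σ : L ≃ₐ[k] L) (g : SGA7.Pts L G) (x : SGA7.Pts L X) :
    σ • ((lift g x ≫ aX.act : SGA7.Pts L X)) = lift (σ • g) (σ • x) ≫ aX.act := by
  rw [GalTw.pts_smul_def, GalTw.pts_smul_def, GalTw.pts_smul_def, ← Category.assoc, comp_lift]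

variable (π₀ : kb ≃ₐ[k] kb)

/-- Twisted conjugation on pairs. -/
def pairAction : MulAction (SGA7.Pts kb G) (SGA7.Pts kb G × SGA7.Pts kb X) where
  smul h p := (h * p.1 * (π₀ • h)⁻¹, lift h p.2 ≫ aX.act)
  one_smul p := by
    show (1 * p.1 * (π₀ • (1 : SGA7.Pts kb G))⁻¹, lift (1 : SGA7.Pts kb G) p.2 ≫ aX.act) = p
    rw [smul_one, inv_one, _root_.mul_one, _root_.one_mul, act_one]
  mul_smul g h p := by
    show (g * h * p.1 * (π₀ • (g * h))⁻¹, lift (g * h) p.2 ≫ aX.act) =
      (g * (h * p.1 * (π₀ • h)⁻¹) * (π₀ • g)⁻¹, lift g (lift h p.2 ≫ aX.act) ≫ aX.act)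
    rw [act_mul, smul_mul', mul_inv_rev]
    congr 1
    group

variable (K : IntermediateField k kb) [FiniteDimensional k K] [Normal k K]

local notation "rs" => AlgEquiv.restrictNormalHom (F := k) (K₁ := kb) K

local notation "vK" => IntermediateField.val K

/-- The pair of a datum at Frobenius. -/
def img (d : ((K ≃ₐ[k] K) → SGA7.Pts K G) × SGA7.Pts K X) : SGA7.Pts kb G × SGA7.Pts kb X :=
  (StackCountLib.res vK (d.1 (rs π₀)), StackCountLib.res vK d.2)

theorem rel_all [IsGalois k kb] (d : StackCountLib.compatSet K aX) (σ : kb ≃ₐ[k] kb) :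
    lift (StackCountLib.res vK (d.1.1 (rs σ))) (σ • StackCountLib.res vK d.1.2) ≫ aX.act =
      StackCountLib.res vK d.1.2 := by
  rw [StackCountLib.smul_res_val, ← StackCountLib.res_act, d.2.2]

variable [Finite k] [IsAlgClosure k kb] (hπ : ∀ x : kb, π₀ x = x ^ Nat.card k)

include hπ in
theorem img_injective : Set.InjOn (img π₀ K) (StackCountLib.compatSet K aX) := by
  haveI : Algebra.IsAlgebraic k kb := IsAlgClosure.isAlgebraic
  haveI : Normal k kb := IsAlgClosure.normal k kb
  haveI : IsGalois k kb := ⟨⟩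
  rintro ⟨w, x⟩ ⟨hw, -⟩ ⟨w', x'⟩ ⟨hw', -⟩ h
  obtain ⟨h1, h2⟩ := Prod.ext_iff.1 h
  have h1' := StackCountLib.res_injective vK G h1
  have hp : ∀ j : ℕ, w (rs π₀ ^ j) = w' (rs π₀ ^ j) := fun j => by
    induction j with
    | zero =>
      have e : w 1 = 1 := GalTw.oneCocycle_one ⟨w, hw⟩
      have e' : w' 1 = 1 := GalTw.oneCocycle_one ⟨w', hw'⟩
      rw [pow_zero, e, e']
    | succ j ih =>
      rw [pow_succ', show w (rs π₀ * rs π₀ ^ j) = _ from hw _ _, show w' (rs π₀ * rs π₀ ^ j) = _ from hw' _ _]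
      exact congrArg₂ (fun a b => a * rs π₀ • b) h1' ih
  refine Prod.ext (funext fun τ => ?_) (StackCountLib.res_injective vK X h2)
  obtain ⟨σ, rfl⟩ := StackCountLib.rs_surjective (kb := kb) K τ
  obtain ⟨j, hj⟩ := UnipCountLib.exists_pow π₀ hπ K σ
  have e : rs σ = rs π₀ ^ j := by
    have h := StackCountLib.rs_eq_one K hj
    rw [map_mul, map_inv, inv_mul_eq_one, map_pow] at h
    exact h.symm
  show w (rs σ) = w' (rs σ)
  rw [e, hp]

include hπ in
/-- An element moving one rational pair to another is rational. -/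
theorem mem_range_of_smul [LocallyOfFiniteType G.hom] (h : SGA7.Pts kb G) (d d' : StackCountLib.compatSet K aX)
    (he : letI := pairAction aX π₀; h • img π₀ K d.1 = img π₀ K d'.1) :
    h ∈ (StackCountLib.resHom vK G).range := by
  haveI : Algebra.IsAlgebraic k kb := IsAlgClosure.isAlgebraic
  haveI : Normal k kb := IsAlgClosure.normal k kb
  haveI : IsGalois k kb := ⟨⟩
  let W : (kb ≃ₐ[k] kb) → SGA7.Pts kb G := fun σ => StackCountLib.res vK (d.1.1 (rs σ))
  let W' : (kb ≃ₐ[k] kb) → SGA7.Pts kb G := fun σ => StackCountLib.res vK (d'.1.1 (rs σ))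
  have hc : ∀ (d : StackCountLib.compatSet K aX) (σ τ : kb ≃ₐ[k] kb), StackCountLib.res vK (d.1.1 (rs (σ * τ))) =
      StackCountLib.res vK (d.1.1 (rs σ)) * σ • StackCountLib.res vK (d.1.1 (rs τ)) := fun d σ τ => by
    rw [map_mul, d.2.1, StackCountLib.smul_res_val]
    exact MonObj.comp_mul _ _ _
  have h1 : ∀ d : StackCountLib.compatSet K aX, StackCountLib.res vK (d.1.1 (rs 1)) = 1 := fun d => by
    rw [map_one, show d.1.1 1 = 1 from GalTw.oneCocycle_one ⟨d.1.1, d.2.1⟩]
    exact MonObj.comp_one _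
  have e1 : h * W π₀ * (π₀ • h)⁻¹ = W' π₀ := congrArg Prod.fst he
  have hp : ∀ j : ℕ, h * W (π₀ ^ j) * ((π₀ ^ j) • h)⁻¹ = W' (π₀ ^ j) := fun j => by
    induction j with
    | zero =>
      show h * StackCountLib.res vK (d.1.1 (rs (π₀ ^ 0))) * _ = StackCountLib.res vK (d'.1.1 (rs (π₀ ^ 0)))
      rw [pow_zero, h1, h1, one_smul, _root_.mul_one, mul_inv_cancel]
    | succ j ih =>
      show h * StackCountLib.res vK (d.1.1 (rs (π₀ ^ (j + 1)))) * _ = StackCountLib.res vK (d'.1.1 (rs (π₀ ^ (j + 1))))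
      rw [pow_succ', hc, hc]
      show h * (W π₀ * π₀ • W (π₀ ^ j)) * _ = W' π₀ * π₀ • W' (π₀ ^ j)
      rw [← ih, ← e1, mul_smul, smul_mul', smul_mul', smul_inv']
      group
  obtain ⟨L, _, hL⟩ := LangGenLib.exists_field_fix G h
  obtain ⟨h₀, hh⟩ := StackCountLib.exists_res_val K (x := h) fun σ hσ => by
    obtain ⟨j, hj⟩ := UnipCountLib.exists_pow π₀ hπ (K ⊔ L) σ
    have hK := StackCountLib.rs_eq_one K (IntermediateField.fixingSubgroup_antitone le_sup_left hj)
    rw [map_mul, map_inv, inv_mul_eq_one] at hK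
    have hh : σ • h = (π₀ ^ j) • h := by
      conv_rhs => rw [← hL _ (IntermediateField.fixingSubgroup_antitone le_sup_right hj)]
      rw [← mul_smul, mul_inv_cancel_left]
    have := hp j
    simp only [W, W'] at this
    rw [hK, StackCountLib.rs_eq_one K hσ, show d.1.1 1 = 1 from GalTw.oneCocycle_one ⟨d.1.1, d.2.1⟩,
      show d'.1.1 1 = 1 from GalTw.oneCocycle_one ⟨d'.1.1, d'.2.1⟩, ← hh] at this
    rw [show StackCountLib.res vK (1 : SGA7.Pts K G) = 1 from MonObj.comp_one _, _root_.mul_one, mul_inv_eq_one] at this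
    exact this.symm
  exact ⟨h₀, hh⟩

omit [FiniteDimensional k K] [Normal k K] in
include hπ in
/-- Every compatible pair is rational over a large enough field. -/
theorem exists_datum [LocallyOfFiniteType G.hom] [QuasiCompact G.hom] [LocallyOfFiniteType X.hom]
    (g : SGA7.Pts kb G) (x : SGA7.Pts kb X) (hgx : lift g (π₀ • x) ≫ aX.act = x) :
    ∃ (L : IntermediateField k kb), FiniteDimensional k L ∧
      ∀ (K : IntermediateField k kb) [FiniteDimensional k K] [Normal k K], L ≤ K →
        ∃ d : StackCountLib.compatSet K aX, img π₀ K d.1 = (g, x) := by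
  haveI : IsAlgClosed kb := IsAlgClosure.isAlgClosed k
  haveI : Algebra.IsAlgebraic k kb := IsAlgClosure.isAlgebraic
  haveI : Normal k kb := IsAlgClosure.normal k kb
  haveI : IsGalois k kb := ⟨⟩
  obtain ⟨hb, -⟩ := LangGenLib.cocycle_frob k kb π₀ hπ (SGA7.Pts kb G) LangGenLib.isOpen_stab
    LangGenLib.exists_finite_subgroup
  obtain ⟨Z, hZ⟩ := hb.2 g
  obtain ⟨L₁, hL₁, -, hN⟩ := StackCountLib.exists_normal_field (fun _ : PUnit.{u+1} => Z)
  obtain ⟨L₂, hL₂, hx⟩ := LangGenLib.exists_field_fix X x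
  haveI := hL₁; haveI := hL₂
  refine ⟨L₁ ⊔ L₂, inferInstance, fun K _ _ hle => ?_⟩
  have hN' : ∀ σ ∈ K.fixingSubgroup, Z.1 σ = 1 := fun σ hσ =>
    hN PUnit.unit σ (IntermediateField.fixingSubgroup_antitone (le_trans le_sup_left hle) hσ)
  have hpow : ∀ j : ℕ, lift (Z.1 (π₀ ^ j)) ((π₀ ^ j) • x) ≫ aX.act = x := fun j => by
    induction j with
    | zero => rw [pow_zero, GalTw.oneCocycle_one, one_smul, act_one]
    | succ j ih =>
      rw [pow_succ', Z.1.2, mul_smul, act_mul, ← smul_act, ih]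
      rw [show Z.1 π₀ = g from hZ]
      exact hgx
  have hall : ∀ σ, lift (Z.1 σ) (σ • x) ≫ aX.act = x := fun σ => by
    obtain ⟨j, hj⟩ := UnipCountLib.exists_pow π₀ hπ K σ
    have e : σ • x = (π₀ ^ j) • x := by
      conv_rhs => rw [← hx _ (IntermediateField.fixingSubgroup_antitone (le_trans le_sup_right hle) hj)]
      rw [← mul_smul, mul_inv_cancel_left]
    have e' : Z.1 σ = Z.1 (π₀ ^ j) := by
      conv_lhs => rw [← mul_inv_cancel_left (π₀ ^ j) σ, Z.1.2, hN' _ hj, smul_one, _root_.mul_one]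
    rw [e, e', hpow]
  obtain ⟨x₀, rfl⟩ := StackCountLib.exists_res_val K (x := x) fun σ hσ =>
    hx σ (IntermediateField.fixingSubgroup_antitone (le_trans le_sup_right hle) hσ)
  choose sec hsec using StackCountLib.rs_surjective (kb := kb) K
  have hdep : ∀ σ, Z.1 σ = Z.1 (sec (AlgEquiv.restrictNormalHom (F := k) (K₁ := kb) K σ)) := fun σ => by
    have hm : (sec (AlgEquiv.restrictNormalHom (F := k) (K₁ := kb) K σ))⁻¹ * σ ∈ K.fixingSubgroup :=
      StackCountLib.mem_fix_of_rs_eq_one K (by rw [map_mul, map_inv, hsec, inv_mul_cancel])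
    conv_lhs => rw [← mul_inv_cancel_left (sec (AlgEquiv.restrictNormalHom (F := k) (K₁ := kb) K σ)) σ, Z.1.2,
      hN' _ hm, smul_one, _root_.mul_one]
  have hval : ∀ σ, ∀ τ ∈ K.fixingSubgroup, τ • Z.1 σ = Z.1 σ := fun σ τ hτ => by
    have h := Z.1.2 τ σ
    rw [hN' τ hτ, _root_.one_mul] at h
    rw [← h, hdep (τ * σ), map_mul, StackCountLib.rs_eq_one K hτ, _root_.one_mul, ← hdep]
  choose y hy using fun σ => StackCountLib.exists_res_val K (hval σ)
  refine ⟨⟨(fun τ => y (sec τ), x₀), fun σ τ => ?_, fun τ => ?_⟩, ?_⟩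
  · refine StackCountLib.res_injective (IntermediateField.val K) G ?_
    show StackCountLib.res (IntermediateField.val K) (y (sec (σ * τ))) =
      StackCountLib.resHom (IntermediateField.val K) G (_ * _)
    rw [map_mul]
    show _ = StackCountLib.res (IntermediateField.val K) (y (sec σ)) * StackCountLib.res (IntermediateField.val K) _
    have e : σ • y (sec τ) = AlgEquiv.restrictNormalHom (F := k) (K₁ := kb) K (sec σ) • y (sec τ) := by rw [hsec]
    rw [e, ← StackCountLib.smul_res_val, hy, hy, hy, ← Z.1.2]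
    conv_rhs => rw [hdep, map_mul, hsec, hsec]
  · refine StackCountLib.res_injective (IntermediateField.val K) X ?_
    show StackCountLib.res _ (lift (y (sec τ)) (τ • x₀) ≫ aX.act) = _
    have e : τ • x₀ = AlgEquiv.restrictNormalHom (F := k) (K₁ := kb) K (sec τ) • x₀ := by rw [hsec]
    rw [e, StackCountLib.res_act, ← StackCountLib.smul_res_val, hy]
    exact hall _
  · refine Prod.ext ?_ rfl
    show StackCountLib.res (IntermediateField.val K) (y (sec _)) = g
    rw [hy, ← hdep]
    exact hZ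

end UnipStabLib
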