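import Mathlib

/-!
# Counting twisted conjugacy classes with connected stabilisers
-/

set_option autoImplicit false
set_option linter.all false

universe u v

namespace UnipStabLib

variable {Γ : Type u} [Group Γ] (φ : Γ →* Γ) {A : Type v} [MulAction Γ A]

/-- If the twisted actions on a normal finite-index subgroup have surjective Lang maps and `N` fixed points each,
then the finite set of rational data has `|GK| / N` elements. -/
theorem card_data_mul (S B : Subgroup Γ) (hBS : B ≤ S) [(B.subgroupOf S).Normal] [Finite (↥S ⧸ B.subgroupOf S)]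
    (g₀ : Γ) (N : ℕ)
    (hst : ∀ s ∈ S, ∀ b ∈ B, s * g₀ * φ b * (s * g₀)⁻¹ ∈ B)
    (hlang : ∀ s ∈ S, ∀ b ∈ B, ∃ a ∈ B, a * (s * g₀ * φ a * (s * g₀)⁻¹)⁻¹ = b)
    (hcard : ∀ s ∈ S, Nat.card {a : B // s * g₀ * φ a * (s * g₀)⁻¹ = a} = N)
    (hφS : ∀ s ∈ S, g₀ * φ s * g₀⁻¹ ∈ S)
    (GK : Subgroup Γ) [Finite GK] (V : Set A) [Finite V] (rep : ↥S ⧸ B.subgroupOf S → A)
    (hiff : ∀ (h : Γ) q q', h • rep q = rep q' ↔
      h ∈ S ∧ h * ((q.out : Γ) * g₀) * (φ h)⁻¹ = (q'.out : Γ) * g₀)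
    (hGK : ∀ (h : Γ) q q', h • rep q = rep q' → h ∈ GK)
    (hmem : ∀ q, ∀ h ∈ GK, h • rep q ∈ V)
    (hcov : ∀ d ∈ V, ∃ q, ∃ h ∈ GK, h • rep q = d) :
    Nat.card V * N = Nat.card GK := by
  classical
  haveI : Fintype (↥S ⧸ B.subgroupOf S) := Fintype.ofFinite _
  haveI : Fintype V := Fintype.ofFinite _
  let Θ : (↥S ⧸ B.subgroupOf S) × GK → V := fun p => ⟨(p.2 : Γ) • rep p.1, hmem p.1 p.2 p.2.2⟩
  have hfib : ∀ e : V, Nat.card {p // Θ p = e} = Nat.card (↥S ⧸ B.subgroupOf S) * N := fun e => by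
    obtain ⟨q₀, h₀, hh₀, he⟩ := hcov e e.2
    have hs : ∀ p : {p // Θ p = e}, (h₀⁻¹ * (p.1.2 : Γ)) • rep p.1.1 = rep q₀ := fun p => by
      rw [mul_smul, show ((p.1.2 : Γ)) • rep p.1.1 = (e : A) from congrArg Subtype.val p.2, ← he, inv_smul_smul]
    let cls : {p // Θ p = e} → ↥S ⧸ B.subgroupOf S :=
      fun p => QuotientGroup.mk ⟨h₀⁻¹ * (p.1.2 : Γ), ((hiff _ _ _).1 (hs p)).1⟩
    haveI : Fintype {p // Θ p = e} := Fintype.ofFinite _
    rw [← Nat.card_congr (Equiv.sigmaFiberEquiv cls), Nat.card_sigma]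
    rw [Finset.sum_congr rfl (fun Q _ => ?_), Finset.sum_const, Finset.card_univ, smul_eq_mul,
      Nat.card_eq_fintype_card]
    -- one class: elements `s * b` with `(s b)⁻¹` moving the base point to a representative
    let s : ↥S := Q.out
    let c : Γ := (s : Γ)⁻¹ * ((q₀.out : Γ) * g₀) * φ s
    have hc : c * g₀⁻¹ ∈ S := by
      have : c * g₀⁻¹ = (s : Γ)⁻¹ * (q₀.out : Γ) * (g₀ * φ s * g₀⁻¹) := by simp only [c]; group
      rw [this]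
      exact S.mul_mem (S.mul_mem (S.inv_mem s.2) (q₀.out).2) (hφS _ s.2)
    let q₁ : ↥S ⧸ B.subgroupOf S := QuotientGroup.mk ⟨c * g₀⁻¹, hc⟩
    obtain ⟨b₁, hb₁, hcq⟩ : ∃ b ∈ B, c = b * ((q₁.out : Γ) * g₀) := by
      have h1 : (QuotientGroup.mk q₁.out : ↥S ⧸ B.subgroupOf S) = QuotientGroup.mk ⟨c * g₀⁻¹, hc⟩ := q₁.out_eq
      rw [QuotientGroup.eq] at h1
      have h2 := Subgroup.Normal.conj_mem ‹(B.subgroupOf S).Normal› _ h1 q₁.out
      rw [Subgroup.mem_subgroupOf] at h2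
      refine ⟨_, h2, ?_⟩
      push_cast
      group
    obtain ⟨a₀, ha₀, hla⟩ := hlang _ (q₁.out).2 b₁ hb₁
    have hc' : a₀ * ((q₁.out : Γ) * g₀) * (φ a₀)⁻¹ = c := by
      rw [hcq, ← hla]; group
    have hGKh : ∀ a : {a : B // (q₁.out : Γ) * g₀ * φ a * ((q₁.out : Γ) * g₀)⁻¹ = a},
        ((s : Γ) * a₀ * (a.1 : Γ)) • rep q₁ = rep q₀ := fun a => by
      refine (hiff _ _ _).2 ⟨S.mul_mem (S.mul_mem s.2 (hBS ha₀)) (hBS a.1.2), ?_⟩
      have ha : (a.1 : Γ) * ((q₁.out : Γ) * g₀) * (φ a.1)⁻¹ = (q₁.out : Γ) * g₀ := by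
        conv_lhs => arg 1; arg 1; rw [← a.2]
        group
      calc (s : Γ) * a₀ * (a.1 : Γ) * ((q₁.out : Γ) * g₀) * (φ ((s : Γ) * a₀ * (a.1 : Γ)))⁻¹
          = (s : Γ) * (a₀ * ((a.1 : Γ) * ((q₁.out : Γ) * g₀) * (φ a.1)⁻¹) * (φ a₀)⁻¹) * (φ s)⁻¹ := by
            simp only [map_mul, mul_inv_rev]; group
        _ = (q₀.out : Γ) * g₀ := by rw [ha, hc']; simp only [c]; group
    rw [← hcard _ (q₁.out).2]
    refine (Nat.card_congr (Equiv.ofBijective (fun a => ?_) ⟨?_, ?_⟩)).symm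
    · refine ⟨⟨(q₁, ⟨h₀ * ((s : Γ) * a₀ * (a.1 : Γ)), GK.mul_mem hh₀ (hGK _ _ _ (hGKh a))⟩), Subtype.ext ?_⟩, ?_⟩
      · show (h₀ * ((s : Γ) * a₀ * (a.1 : Γ))) • rep q₁ = (e : A)
        rw [mul_smul, hGKh, he]
      · refine Eq.trans ?_ Q.out_eq
        show QuotientGroup.mk _ = QuotientGroup.mk s
        rw [QuotientGroup.eq, Subgroup.mem_subgroupOf]
        push_cast
        rw [show (h₀⁻¹ * (h₀ * ((s : Γ) * a₀ * (a.1 : Γ))))⁻¹ * (s : Γ) = (a.1 : Γ)⁻¹ * a₀⁻¹ by group]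
        exact B.mul_mem (B.inv_mem a.1.2) (B.inv_mem ha₀)
    · intro a a' h
      have := congrArg (fun p : {p : {p // Θ p = e} // cls p = Q} => ((p.1.1.2 : GK) : Γ)) h
      exact Subtype.ext (Subtype.ext (mul_left_cancel (mul_left_cancel this)))
    · rintro ⟨⟨⟨q, h⟩, hp⟩, hQ⟩
      have hsS := ((hiff _ _ _).1 (hs ⟨⟨q, h⟩, hp⟩)).1
      have heq := ((hiff _ _ _).1 (hs ⟨⟨q, h⟩, hp⟩)).2
      change h₀⁻¹ * (h : Γ) ∈ S at hsS
      change h₀⁻¹ * (h : Γ) * ((q.out : Γ) * g₀) * (φ (h₀⁻¹ * (h : Γ)))⁻¹ = (q₀.out : Γ) * g₀ at heq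
      -- the element differs from `s * a₀` by an element of `B`
      have hb : (s * ⟨a₀, hBS ha₀⟩ : ↥S)⁻¹ * ⟨h₀⁻¹ * (h : Γ), hsS⟩ ∈ B.subgroupOf S := by
        have h1 : (QuotientGroup.mk (⟨h₀⁻¹ * (h : Γ), hsS⟩ : ↥S) : ↥S ⧸ B.subgroupOf S) = QuotientGroup.mk s :=
          hQ.trans Q.out_eq.symm
        rw [eq_comm, QuotientGroup.eq] at h1
        have e1 : (s * ⟨a₀, hBS ha₀⟩ : ↥S)⁻¹ * ⟨h₀⁻¹ * (h : Γ), hsS⟩ =
            (⟨a₀, hBS ha₀⟩ : ↥S)⁻¹ * (s⁻¹ * ⟨h₀⁻¹ * (h : Γ), hsS⟩) := by group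
        rw [e1]
        exact (B.subgroupOf S).mul_mem ((B.subgroupOf S).inv_mem ha₀) h1
      rw [Subgroup.mem_subgroupOf] at hb
      push_cast at hb
      set a : Γ := ((s : Γ) * a₀)⁻¹ * (h₀⁻¹ * (h : Γ)) with ha
      -- so it moves the representative of `q` into the coset of `q₁`
      have e2 : a * ((q.out : Γ) * g₀) * (φ a)⁻¹ = (q₁.out : Γ) * g₀ := by
        have e3 : (s : Γ) * a₀ * (a * ((q.out : Γ) * g₀) * (φ a)⁻¹) * (φ ((s : Γ) * a₀))⁻¹ = (q₀.out : Γ) * g₀ := by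
          rw [← heq, show h₀⁻¹ * (h : Γ) = (s : Γ) * a₀ * a by rw [ha]; group, map_mul φ ((s : Γ) * a₀) a, mul_inv_rev]
          group
        rw [← mul_right_inj ((s : Γ) * a₀), ← mul_left_inj ((φ ((s : Γ) * a₀))⁻¹), e3, map_mul, mul_inv_rev]
        calc (q₀.out : Γ) * g₀ = (s : Γ) * c * (φ s)⁻¹ := by simp only [c]; group
          _ = _ := by rw [← hc']; group
      have hqq : q = q₁ := by
        rw [← QuotientGroup.out_eq' q, ← QuotientGroup.out_eq' q₁, eq_comm, QuotientGroup.eq, Subgroup.mem_subgroupOf]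
        push_cast
        have h3 : (q.out : Γ)⁻¹ * (a * ((q.out : Γ) * g₀ * (φ a)⁻¹ * ((q.out : Γ) * g₀)⁻¹)) * (q.out : Γ) ∈ B := by
          have hm : a * ((q.out : Γ) * g₀ * (φ a)⁻¹ * ((q.out : Γ) * g₀)⁻¹) ∈ B := by
            rw [← map_inv]
            exact B.mul_mem hb (hst _ (q.out).2 _ (B.inv_mem hb))
          have := Subgroup.Normal.conj_mem ‹(B.subgroupOf S).Normal› ⟨_, hBS hm⟩ hm q.out⁻¹
          rw [Subgroup.mem_subgroupOf] at this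
          push_cast at this
          rwa [inv_inv] at this
        have e4 : (q.out : Γ)⁻¹ * (a * ((q.out : Γ) * g₀ * (φ a)⁻¹ * ((q.out : Γ) * g₀)⁻¹)) * (q.out : Γ) =
            ((q₁.out : Γ)⁻¹ * (q.out : Γ))⁻¹ := by
          rw [show a * ((q.out : Γ) * g₀ * (φ a)⁻¹ * ((q.out : Γ) * g₀)⁻¹) =
            (a * ((q.out : Γ) * g₀) * (φ a)⁻¹) * ((q.out : Γ) * g₀)⁻¹ by group, e2]
          group
        rw [e4] at h3
        simpa using B.inv_mem h3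
      refine ⟨⟨⟨a, hb⟩, ?_⟩, ?_⟩
      · show (q₁.out : Γ) * g₀ * φ a * ((q₁.out : Γ) * g₀)⁻¹ = a
        rw [hqq] at e2
        conv_lhs => arg 1; arg 1; rw [← e2]
        group
      · refine Subtype.ext (Subtype.ext (Prod.ext hqq.symm (Subtype.ext ?_)))
        show h₀ * ((s : Γ) * a₀ * a) = h
        rw [ha]; group
  have h := Nat.card_congr (Equiv.sigmaFiberEquiv Θ)
  rw [Nat.card_sigma, Finset.sum_congr rfl (fun e _ => hfib e), Finset.sum_const, Finset.card_univ, smul_eq_mul,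
    Nat.card_prod, ← Nat.card_eq_fintype_card] at h
  refine mul_left_cancel₀ (b := Nat.card V * N) (a := Nat.card (↥S ⧸ B.subgroupOf S)) Nat.card_pos.ne' ?_
  rw [← h]; ring

end UnipStabLib
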