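import Groth.Agent.UnipStabLib.Orbits
import Groth.Agent.UnipStabLib.Data
import Groth.Agent.UnipCountLib.Mass
import Groth.Agent.GrpFieldLib.Comps

/-!
# Counting torsor data over a finite reduced scheme
-/

set_option autoImplicit false
set_option linter.all false
set_option backward.isDefEq.respectTransparency false
set_option backward.isDefEq.respectTransparency.types false
set_option maxHeartbeats 1000000
set_option synthInstance.maxHeartbeats 400000

noncomputable section

universe u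

open CategoryTheory CategoryTheory.Limits MonoidalCategory CartesianMonoidalCategory MonObj AlgebraicGeometry
open Groth.Agent Groth.Agent.GrpField

attribute [-instance] CategoryTheory.Hom.commGroup

namespace UnipStabLib

variable {k : Type u} [Field k] {kb : Type u} [Field kb] [Algebra k kb]

/-- The identity component acts trivially on the geometric points of a finite scheme. -/
theorem zeroPts_fix [IsAlgClosed kb] {F E : Over (Spec (CommRingCat.of k))} [GrpObj F] [IsFinite E.hom]
    (a : AlgGrp.Action F E) (x : SGA7.Pts kb E) (b : SGA7.Pts kb F)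
    (hb : bcEquiv kb F b ∈ zeroPts (GalTw.bcK kb F)) : lift b x ≫ a.act = x := by
  let tb := (SGA7.pt (K := k) kb).hom
  let S := GalTw.bcK kb F
  let T := GalTw.bcK kb E
  haveI : IsFinite T.hom := inferInstanceAs (IsFinite (pullback.snd E.hom tb))
  haveI : LocallyOfFiniteType T.hom := inferInstance
  haveI : Subsingleton ↥(Spec (CommRingCat.of kb)) := inferInstanceAs (Subsingleton (PrimeSpectrum kb))
  haveI : Finite T.left := by
    have h := IsFinite.finite_preimage_singleton T.hom (IsLocalRing.closedPoint kb)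
    exact Set.finite_univ_iff.1 (h.subset fun p _ => Subsingleton.elim (T.hom p) _)
  haveI : DiscreteTopology T.left := by
    haveI : JacobsonSpace T.left := LocallyOfFiniteType.jacobsonSpace T.hom
    infer_instance
  let g : (Over.map tb).obj S ⟶ E :=
    lift (((Over.mapPullbackAdj tb).homEquiv S F).symm (𝟙 S))
      ((Over.homMk S.hom rfl : (Over.map tb).obj S ⟶ SGA7.pt (K := k) kb) ≫ x) ≫ a.act
  let f : S ⟶ T := (Over.mapPullbackAdj tb).homEquiv S E g
  have key : ∀ y : SGA7.Pts kb F, bcEquiv kb F y ≫ f = AVAmpleLib.bcPt kb (lift y x ≫ a.act) := fun y => by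
    show bcEquiv kb F y ≫ _ = _
    rw [← (Over.mapPullbackAdj tb).homEquiv_naturality_left]
    let j0 : (Over.map tb).obj (𝟙_ (Over (Spec (CommRingCat.of kb)))) ⟶ SGA7.pt (K := k) kb :=
      Over.homMk (𝟙_ (Over (Spec (CommRingCat.of kb)))).hom rfl
    have hfst : (bcEquiv kb F y).left ≫ pullback.fst F.hom _ = y.left := by
      show (AVAmpleLib.bcPt kb y).left ≫ _ = _
      rw [AVAmpleLib.bcPt_left]
      exact pullback.lift_fst _ _ _
    have e1 : (Over.map tb).map (bcEquiv kb F y) ≫ ((Over.mapPullbackAdj tb).homEquiv S F).symm (𝟙 S) = j0 ≫ y := by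
      rw [← (Over.mapPullbackAdj tb).homEquiv_naturality_left_symm, Category.comp_id]
      refine Over.OverMorphism.ext ?_
      rw [Adjunction.homEquiv_counit]
      show (bcEquiv kb F y).left ≫ _ = 𝟙 (Spec (CommRingCat.of kb)) ≫ y.left
      rw [Category.id_comp]
      exact hfst
    have e2 : (Over.map tb).map (bcEquiv kb F y) ≫ (Over.homMk S.hom rfl : (Over.map tb).obj S ⟶ SGA7.pt (K := k) kb) = j0 :=
      Over.OverMorphism.ext (Over.w (bcEquiv kb F y))
    have e3 : (Over.map tb).map (bcEquiv kb F y) ≫ g = j0 ≫ lift y x ≫ a.act := by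
      show _ ≫ lift _ _ ≫ a.act = _
      rw [← Category.assoc, comp_lift, ← Category.assoc ((Over.map tb).map (bcEquiv kb F y)), e1, e2, ← Category.assoc,
        comp_lift]
    rw [e3]
    refine ((Equiv.apply_eq_iff_eq_symm_apply _).2 (Over.OverMorphism.ext ?_))
    rw [Adjunction.homEquiv_counit]
    show 𝟙 (Spec (CommRingCat.of kb)) ≫ (lift y x ≫ a.act).left =
      (AVAmpleLib.bcPt kb (lift y x ≫ a.act)).left ≫ pullback.fst E.hom _
    rw [Category.id_comp, AVAmpleLib.bcPt_left]
    exact (pullback.lift_fst _ _ _).symm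
  have hsub : (f.left '' connectedComponent (unitPt S)).Subsingleton :=
    ((isPreconnected_connectedComponent (x := unitPt S)).image _ f.left.continuous.continuousOn).subsingleton
  change secPt (bcEquiv kb F b) ∈ Z0 S at hb
  rw [← connectedComponent_unit] at hb
  have h1 : secPt (bcEquiv kb F 1) ∈ connectedComponent (unitPt S) := by
    rw [map_one, secPt_one]; exact mem_connectedComponent
  have e : secPt (bcEquiv kb F b ≫ f) = secPt (bcEquiv kb F 1 ≫ f) := hsub ⟨_, hb, rfl⟩ ⟨_, h1, rfl⟩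
  rw [key, key, act_one] at e
  refine (AVAmpleLib.bcPt_bijective (k := k) (X := E) kb).1 (Over.OverMorphism.ext ?_)
  exact ext_of_apply_closedPoint_eq T.hom (Over.w _) (Over.w _) e


/-- The torsor data over a finite scheme under a group with unipotent identity component. -/
theorem card_finite_orbits [Finite k] [IsAlgClosure k kb] (π₀ : kb ≃ₐ[k] kb) (hπ : ∀ x : kb, π₀ x = x ^ Nat.card k)
    (G X : Over (Spec (CommRingCat.of k))) [GrpObj G] [Smooth G.hom] [IsAffineHom G.hom] [IsFinite X.hom]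
    (aX : AlgGrp.Action G X) (J : Type) [Fintype J] (x : J → SGA7.Pts kb X)
    (hdis : ∀ j j' : J, (∃ g : SGA7.Pts kb G, lift g (x j) ≫ aX.act = x j') → j = j')
    (hfix : ∀ (j : J) (σ : kb ≃ₐ[k] kb), ∃ g : SGA7.Pts kb G, lift g (σ • x j) ≫ aX.act = x j)
    (hall : ∀ y : SGA7.Pts kb X,
      (∀ σ : kb ≃ₐ[k] kb, ∃ g : SGA7.Pts kb G, lift g (σ • y) ≫ aX.act = y) →
        ∃ (j : J) (g : SGA7.Pts kb G), lift g (x j) ≫ aX.act = y)
    (hno : Red.HasNoSubtorus kb (GalTw.bcK kb G)) (d : ℕ) (hd : topologicalKrullDim ↥G.left = (d : WithBot ℕ∞)) :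
    ∃ L : IntermediateField k kb, FiniteDimensional k L ∧
      ∀ (K : IntermediateField k kb) [FiniteDimensional k K] [Normal k K], L ≤ K →
        Nat.card (StackCountLib.compatSet K aX) * Nat.card k ^ d = Fintype.card J * Nat.card (SGA7.Pts K G) := by
  classical
  haveI : IsAlgClosed kb := IsAlgClosure.isAlgClosed k
  haveI : Algebra.IsAlgebraic k kb := IsAlgClosure.isAlgebraic
  haveI : Normal k kb := IsAlgClosure.normal k kb
  haveI : IsGalois k kb := ⟨⟩
  letI : MulAction (SGA7.Pts kb G) (SGA7.Pts kb G × SGA7.Pts kb X) := UnipStabLib.pairAction aX π₀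
  haveI : IsAffine G.left := isAffine_of_isAffineHom G.hom
  haveI : QuasiCompact G.hom := inferInstance
  haveI : LocallyOfFiniteType X.hom := inferInstance
  let S := GalTw.bcK kb G
  let s : S ⟶ GalTw.bcK kb G := 𝟙 S
  haveI : IsClosedImmersion s.left := inferInstanceAs (IsClosedImmersion (𝟙 S.left))
  haveI : IsMonHom s := inferInstanceAs (IsMonHom (𝟙 S))
  have hdS : topologicalKrullDim ↥S.left = (d : WithBot ℕ∞) := by
    rw [← hd]
    exact FibDimLib.topologicalKrullDim_pullback_field k kb G.hom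
  let St : J → Subgroup (SGA7.Pts kb G) := fun j =>
    { carrier := {h | lift h (x j) ≫ aX.act = x j}
      one_mem' := act_one aX _
      mul_mem' := fun {a b} ha hb => by
        show lift (a * b) (x j) ≫ aX.act = x j
        rw [act_mul, hb, ha]
      inv_mem' := fun {a} ha => by
        show lift a⁻¹ (x j) ≫ aX.act = x j
        conv_lhs => arg 1; arg 2; rw [← (ha : lift a (x j) ≫ aX.act = x j)]
        rw [← act_mul, inv_mul_cancel, act_one] }
  let B : Subgroup (SGA7.Pts kb G) := (UnipStabLib.zeroPts S).map (UnipStabLib.subHom s)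
  have hSt : ∀ j h, h ∈ St j ↔ lift h (x j) ≫ aX.act = x j := fun j h => Iff.rfl
  have hs1 : ∀ z, UnipStabLib.subHom s z = (bcEquiv kb G).symm z := fun z => by
    show (bcEquiv kb G).symm (z ≫ 𝟙 S) = _
    rw [Category.comp_id]
  have hBS : ∀ j, B ≤ St j := fun j => by
    rintro _ ⟨z, hz, rfl⟩
    rw [hSt, hs1]
    exact zeroPts_fix aX _ _ (by rw [MulEquiv.apply_symm_apply]; exact hz)
  haveI hBn : B.Normal := ⟨by
    rintro _ ⟨n, hn, rfl⟩ a
    refine ⟨bcEquiv kb G a * n * (bcEquiv kb G a)⁻¹, (UnipStabLib.zeroPts_normal S).conj_mem n hn _, ?_⟩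
    rw [map_mul, map_mul, map_inv, hs1, MulEquiv.symm_apply_apply]⟩
  haveI : ∀ j, (B.subgroupOf (St j)).Normal := fun j => Subgroup.normal_subgroupOf
  haveI : ∀ j, Finite (↥(St j) ⧸ B.subgroupOf (St j)) := fun j => by
    haveI : LocallyOfFiniteType S.hom := inferInstanceAs (LocallyOfFiniteType (pullback.snd G.hom _))
    haveI : QuasiCompact S.hom := inferInstanceAs (QuasiCompact (pullback.snd G.hom _))
    haveI := UnipStabLib.finite_quot_zeroPts S
    haveI : Finite (SGA7.Pts kb G ⧸ B) := Finite.of_surjective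
      (QuotientGroup.map _ B (UnipStabLib.subHom s) fun z hz => ⟨z, hz, rfl⟩) fun Q => by
      induction Q using QuotientGroup.induction_on with
      | _ h =>
        refine ⟨QuotientGroup.mk (bcEquiv kb G h), congrArg QuotientGroup.mk ?_⟩
        rw [hs1, MulEquiv.symm_apply_apply]
    refine Finite.of_injective (Quotient.map' (s₁ := QuotientGroup.leftRel (B.subgroupOf (St j)))
      (s₂ := QuotientGroup.leftRel B) (fun h : ↥(St j) => (h : SGA7.Pts kb G)) fun a b h => ?_) ?_
    · rw [QuotientGroup.leftRel_apply] at h ⊢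
      exact h
    · rintro ⟨a⟩ ⟨b⟩ h
      exact QuotientGroup.eq.2 (Subgroup.mem_subgroupOf.2 (QuotientGroup.eq.1 h))
  choose g₀ hg₀ using fun j => hfix j π₀
  have hCg : ∀ j, ∀ s' ∈ St j, lift (s' * g₀ j) (π₀ • x j) ≫ aX.act = x j := fun j s' hs' => by
    rw [UnipStabLib.act_mul, hg₀, (hSt j s').1 hs']
  have hconj : ∀ j, ∀ g : SGA7.Pts kb G, lift g (π₀ • x j) ≫ aX.act = x j →
      ∀ h ∈ St j, g * π₀ • h * g⁻¹ ∈ St j := fun j g hg h hh => by
    rw [hSt] at hh ⊢
    have e : lift g⁻¹ (x j) ≫ aX.act = π₀ • x j := by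
      conv_lhs => rw [← hg, ← UnipStabLib.act_mul, inv_mul_cancel, UnipStabLib.act_one]
    rw [UnipStabLib.act_mul, e, UnipStabLib.act_mul, ← UnipStabLib.smul_act, hh, hg]
  have htw := fun {j : J} (s' : SGA7.Pts kb G) =>
    UnipStabLib.zero_pts_twisted π₀ hπ G s hno d hdS (s' * g₀ j)
      (fun h _ => ⟨bcEquiv kb G ((s' * g₀ j) * π₀ • h * (s' * g₀ j)⁻¹), by rw [hs1, MulEquiv.symm_apply_apply]⟩)
  -- a field over which everything is rational
  choose L hL hLd using fun p : Σ j, ↥(St j) ⧸ B.subgroupOf (St j) =>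
    UnipStabLib.exists_datum (kb := kb) aX π₀ hπ ((p.2.out : SGA7.Pts kb G) * g₀ p.1) (x p.1)
      (hCg p.1 _ (p.2.out).2)
  haveI := hL
  haveI : FiniteDimensional k ↥(⨆ p, L p) := IntermediateField.finiteDimensional_iSup_of_finite
  refine ⟨⨆ p, L p, inferInstance, fun K _ _ hle => ?_⟩
  choose dat hdat using fun p => hLd p K (le_trans (le_iSup L p) hle)
  haveI : Finite K := Module.finite_of_finite k
  haveI := LangGenLib.finite_pts (k := k) K G
  haveI := LangGenLib.finite_pts (k := k) K X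
  let GK : Subgroup (SGA7.Pts kb G) := (StackCountLib.resHom (IntermediateField.val K) G).range
  haveI : Finite GK := Finite.of_surjective _ (StackCountLib.resHom (IntermediateField.val K) G).rangeRestrict_surjective
  have hGKc : Nat.card GK = Nat.card (SGA7.Pts K G) := (Nat.card_congr
    (MonoidHom.ofInjective (f := StackCountLib.resHom (IntermediateField.val K) G)
      (StackCountLib.res_injective _ G)).toEquiv).symm
  let Dj : J → Set (((K ≃ₐ[k] K) → SGA7.Pts K G) × SGA7.Pts K X) := fun j =>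
    {e | e ∈ StackCountLib.compatSet K aX ∧ ∃ g, lift g (x j) ≫ aX.act = StackCountLib.res (IntermediateField.val K) e.2}
  have hcount : ∀ j, Nat.card (Dj j) * Nat.card k ^ d = Nat.card (SGA7.Pts K G) := fun j => by
    have hinj : Set.InjOn (UnipStabLib.img π₀ K) (Dj j) :=
      (UnipStabLib.img_injective aX π₀ K hπ).mono fun e he => he.1
    rw [← hGKc, ← Nat.card_image_of_injOn hinj]
    refine UnipStabLib.card_data_mul (MulDistribMulAction.toMonoidHom (SGA7.Pts kb G) π₀) (St j) B (hBS j) (g₀ j)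
      (Nat.card k ^ d) (fun s' hs' b hb => (htw s').1 b hb) (fun s' hs' b hb => (htw s').2.1 b hb)
      (fun s' hs' => (htw s').2.2) (fun s' hs' => hconj j _ (hg₀ j) s' hs') GK _
      (fun q => UnipStabLib.img π₀ K (dat ⟨j, q⟩).1) ?_ ?_ ?_ ?_
    · intro g q q'
      rw [hdat, hdat, hSt]
      refine ⟨fun e => ⟨congrArg Prod.snd e, congrArg Prod.fst e⟩, fun e => Prod.ext e.2 e.1⟩
    · intro g q q' e
      exact UnipStabLib.mem_range_of_smul aX π₀ K hπ g _ _ e
    · rintro q _ ⟨h₀, rfl⟩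
      have hd₀ := (dat ⟨j, q⟩).2
      refine ⟨(fun σ => h₀ * (dat ⟨j, q⟩).1.1 σ * (σ • h₀)⁻¹, lift h₀ (dat ⟨j, q⟩).1.2 ≫ aX.act),
        ⟨⟨fun σ τ => ?_, fun σ => ?_⟩, ?_⟩, Prod.ext ?_ ?_⟩
      · show h₀ * (dat ⟨j, q⟩).1.1 (σ * τ) * ((σ * τ) • h₀)⁻¹ = h₀ * (dat ⟨j, q⟩).1.1 σ * (σ • h₀)⁻¹ *
          σ • (h₀ * (dat ⟨j, q⟩).1.1 τ * (τ • h₀)⁻¹)
        rw [hd₀.1, smul_mul', smul_mul', smul_inv', mul_smul]
        group
      · show lift (h₀ * (dat ⟨j, q⟩).1.1 σ * (σ • h₀)⁻¹) (σ • (lift h₀ (dat ⟨j, q⟩).1.2 ≫ aX.act)) ≫ aX.act =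
          lift h₀ (dat ⟨j, q⟩).1.2 ≫ aX.act
        rw [UnipStabLib.smul_act, ← UnipStabLib.act_mul, inv_mul_cancel_right, UnipStabLib.act_mul, hd₀.2 σ]
      · refine ⟨StackCountLib.res (IntermediateField.val K) h₀, ?_⟩
        show _ = StackCountLib.res _ (lift h₀ (dat ⟨j, q⟩).1.2 ≫ aX.act)
        rw [StackCountLib.res_act, show StackCountLib.res (IntermediateField.val K) (dat ⟨j, q⟩).1.2 = x j from
          congrArg Prod.snd (hdat ⟨j, q⟩)]
      · show StackCountLib.resHom (IntermediateField.val K) G (h₀ * _ * (_ • h₀)⁻¹) =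
          StackCountLib.resHom (IntermediateField.val K) G h₀ * _ * (π₀ • StackCountLib.res (IntermediateField.val K) h₀)⁻¹
        rw [map_mul, map_mul, map_inv, StackCountLib.smul_res_val]
        rfl
      · exact StackCountLib.res_act _ _ _ _
    · rintro _ ⟨e, ⟨hec, g', hg'⟩, rfl⟩
      let w := StackCountLib.res (IntermediateField.val K) (e.1 (AlgEquiv.restrictNormalHom (F := k) (K₁ := kb) K π₀))
      have hw : lift w (π₀ • StackCountLib.res (IntermediateField.val K) e.2) ≫ aX.act =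
          StackCountLib.res (IntermediateField.val K) e.2 := UnipStabLib.rel_all aX K ⟨e, hec⟩ π₀
      let c := g'⁻¹ * w * π₀ • g'
      have hc : lift c (π₀ • x j) ≫ aX.act = x j := by
        rw [UnipStabLib.act_mul, ← UnipStabLib.smul_act, hg', UnipStabLib.act_mul, hw, ← hg', ← UnipStabLib.act_mul,
          inv_mul_cancel, UnipStabLib.act_one]
      have hcs : c * (g₀ j)⁻¹ ∈ St j := by
        rw [hSt, UnipStabLib.act_mul]
        conv_lhs => arg 1; arg 2; rw [← hg₀ j, ← UnipStabLib.act_mul, inv_mul_cancel, UnipStabLib.act_one]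
        exact hc
      let q : ↥(St j) ⧸ B.subgroupOf (St j) := QuotientGroup.mk ⟨c * (g₀ j)⁻¹, hcs⟩
      obtain ⟨b, hb, hcb⟩ : ∃ b ∈ B, c = b * ((q.out : SGA7.Pts kb G) * g₀ j) := by
        have h1 : (QuotientGroup.mk q.out : ↥(St j) ⧸ B.subgroupOf (St j)) =
            QuotientGroup.mk ⟨c * (g₀ j)⁻¹, hcs⟩ := q.out_eq
        rw [QuotientGroup.eq] at h1
        have h2 := Subgroup.Normal.conj_mem inferInstance _ h1 q.out
        rw [Subgroup.mem_subgroupOf] at h2
        refine ⟨_, h2, ?_⟩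
        push_cast
        group
      obtain ⟨a, ha, hab⟩ := (htw (j := j) (q.out : SGA7.Pts kb G)).2.1 b hb
      have heq : (g' * a) • UnipStabLib.img π₀ K (dat ⟨j, q⟩).1 = UnipStabLib.img π₀ K e := by
        rw [hdat]
        refine Prod.ext ?_ ?_
        · show g' * a * ((q.out : SGA7.Pts kb G) * g₀ j) * (π₀ • (g' * a))⁻¹ = w
          have e1 : a * ((q.out : SGA7.Pts kb G) * g₀ j) * (π₀ • a)⁻¹ = c := by
            rw [hcb, ← hab]; group
          calc g' * a * ((q.out : SGA7.Pts kb G) * g₀ j) * (π₀ • (g' * a))⁻¹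
              = g' * (a * ((q.out : SGA7.Pts kb G) * g₀ j) * (π₀ • a)⁻¹) * (π₀ • g')⁻¹ := by
                rw [smul_mul', mul_inv_rev]; group
            _ = w := by rw [e1]; simp only [c]; group
        · show lift (g' * a) (x j) ≫ aX.act = StackCountLib.res (IntermediateField.val K) e.2
          rw [UnipStabLib.act_mul, (hSt j a).1 (hBS j ha), hg']
      exact ⟨q, _, UnipStabLib.mem_range_of_smul aX π₀ K hπ _ (dat ⟨j, q⟩) ⟨e, hec⟩ heq, heq⟩
  have hsum : Nat.card (StackCountLib.compatSet K aX) = ∑ j, Nat.card (Dj j) := by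
    rw [← Nat.card_sigma]
    refine (Nat.card_congr (Equiv.ofBijective (fun p : Σ j, Dj j => ⟨p.2.1, p.2.2.1⟩) ⟨?_, ?_⟩)).symm
    · rintro ⟨j, e, hec, g, hg⟩ ⟨j', e', hec', g', hg'⟩ he
      obtain rfl : e = e' := congrArg Subtype.val he
      obtain rfl : j = j' := hdis j j' ⟨g'⁻¹ * g, by
        rw [UnipStabLib.act_mul, hg, ← hg', ← UnipStabLib.act_mul, inv_mul_cancel, UnipStabLib.act_one]⟩
      rfl
    · rintro ⟨e, he⟩
      obtain ⟨j, g, hg⟩ := hall (StackCountLib.res (IntermediateField.val K) e.2) fun σ =>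
        ⟨_, UnipStabLib.rel_all aX K ⟨e, he⟩ σ⟩
      exact ⟨⟨j, e, he, g, hg⟩, rfl⟩
  rw [hsum, Finset.sum_mul, Finset.sum_congr rfl fun j _ => hcount j, Finset.sum_const, Finset.card_univ, smul_eq_mul]

end UnipStabLib
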