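import Groth.Agent.UnipStabLib.Data
import Groth.Agent.UnipCountLib.Mass
import Mathlib.AlgebraicGeometry.AffineSpace

/-!
# Counting torsor data for split groups
-/

set_option autoImplicit false
set_option linter.all false
set_option backward.isDefEq.respectTransparency false
set_option backward.isDefEq.respectTransparency.types false
set_option maxHeartbeats 1000000
set_option synthInstance.maxHeartbeats 400000

noncomputable section

universe u

open CategoryTheory CategoryTheory.Limits MonoidalCategory CartesianMonoidalCategory MonObj AlgebraicGeometry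
open Groth.Agent

attribute [-instance] CategoryTheory.Hom.commGroup

namespace UnipStabLib

theorem card_split {k : Type u} [Field k] [Finite k] {kb : Type u} [Field kb] [Algebra k kb] [IsAlgClosure k kb]
    (K : IntermediateField k kb) [FiniteDimensional k K] [Normal k K]
    {G H U X : Over (Spec (CommRingCat.of k))} [GrpObj G] [GrpObj H] [GrpObj U] [Smooth G.hom] [IsAffineHom G.hom]
    [Smooth H.hom] [IsAffineHom H.hom] [Smooth U.hom] [IsAffineHom U.hom] [ConnectedSpace U.left]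
    [LocallyOfFiniteType X.hom] [QuasiCompact X.hom]
    (iH : H ⟶ G) (iU : U ⟶ G) [IsMonHom iH] [IsMonHom iU] [Mono iH] [Mono iU] (hUn : AlgGrp.IsNormalHom iU)
    (hsd : IsIso ((fst H U ≫ iH) * (snd H U ≫ iU))) (N : ℕ)
    (hN : ∀ z : GpH1.OneCocycle (K ≃ₐ[k] K) (SGA7.Pts K H), Nat.card {u : SGA7.Pts K U // ∀ σ : K ≃ₐ[k] K,
      (z σ ≫ iH) * ((σ • u) ≫ iU) * (z σ ≫ iH)⁻¹ = u ≫ iU} = N)
    (aG : AlgGrp.Action G X) (aH : AlgGrp.Action H X) (haH : aH.act = (iH ▷ X) ≫ aG.act) :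
    Nat.card (StackCountLib.compatSet K aG) * N =
      Nat.card (SGA7.Pts K U) * Nat.card (StackCountLib.compatSet K aH) ∧
    Nat.card (SGA7.Pts K G) = Nat.card (SGA7.Pts K H) * Nat.card (SGA7.Pts K U) := by
  classical
  haveI : IsAlgClosed kb := IsAlgClosure.isAlgClosed k
  haveI : Algebra.IsAlgebraic k kb := IsAlgClosure.isAlgebraic
  haveI : Normal k kb := IsAlgClosure.normal k kb
  haveI : IsGalois k kb := ⟨⟩
  haveI : Finite K := Module.finite_of_finite k
  haveI : IsGalois k K := ⟨⟩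
  haveI := LangGenLib.finite_pts (k := k) K G
  haveI := LangGenLib.finite_pts (k := k) K H
  haveI := LangGenLib.finite_pts (k := k) K U
  haveI := LangGenLib.finite_pts (k := k) K X
  haveI : IsAffine U.left := isAffine_of_isAffineHom U.hom
  obtain ⟨π, _, ρ, hdec, h1, h2, huniq, hcart⟩ := UnipCountLib.exists_proj iH iU hUn hsd
  obtain ⟨c, hc⟩ := UnipCountLib.exists_conj_action iH iU hUn
  have hcev : ∀ (h : SGA7.Pts K H) (u : SGA7.Pts K U),
      (lift h u ≫ c.act) ≫ iU = (h ≫ iH) * (u ≫ iU) * (h ≫ iH)⁻¹ := fun h u => by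
    rw [Category.assoc, hc]
    simp only [MonObj.comp_mul, GrpObj.comp_inv, lift_fst_assoc, lift_snd_assoc]
  have hH : ∀ {T : Over (Spec (CommRingCat.of k))} (h : T ⟶ H) (x : T ⟶ X),
      lift h x ≫ aH.act = lift (h ≫ iH) x ≫ aG.act := fun h x => by
    rw [haH, ← Category.assoc, lift_whiskerRight]
  have hsm : ∀ {Y Z : Over (Spec (CommRingCat.of k))} (σ : K ≃ₐ[k] K) (y : SGA7.Pts K Y) (f : Y ⟶ Z),
      σ • ((y ≫ f : SGA7.Pts K Z)) = (σ • y) ≫ f := fun σ y f => by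
    rw [GalTw.pts_smul_def, GalTw.pts_smul_def, Category.assoc]
  have hsa : ∀ (σ : K ≃ₐ[k] K) (g : SGA7.Pts K G) (x : SGA7.Pts K X),
      σ • (lift g x ≫ aG.act) = lift (σ • g) (σ • x) ≫ aG.act := fun σ g x => by
    rw [hsm]
    congr 1
    exact comp_lift (SGA7.specAut σ) g x
  -- the action of `g` on the data of a torsor
  let D : SGA7.Pts K G → (((K ≃ₐ[k] K) → SGA7.Pts K G) × SGA7.Pts K X) →
      (((K ≃ₐ[k] K) → SGA7.Pts K G) × SGA7.Pts K X) :=
    fun g d => (fun σ => g * d.1 σ * (σ • g)⁻¹, lift g d.2 ≫ aG.act)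
  have hDmem : ∀ g d, d ∈ StackCountLib.compatSet K aG → D g d ∈ StackCountLib.compatSet K aG := by
    rintro g ⟨w, x⟩ ⟨hw, hx⟩
    refine ⟨fun σ τ => ?_, fun σ => ?_⟩
    · show g * w (σ * τ) * ((σ * τ) • g)⁻¹ = g * w σ * (σ • g)⁻¹ * σ • (g * w τ * (τ • g)⁻¹)
      rw [show w (σ * τ) = w σ * σ • w τ from hw σ τ, smul_mul', smul_mul', smul_inv', mul_smul]
      group
    · show lift (g * w σ * (σ • g)⁻¹) (σ • (lift g x ≫ aG.act)) ≫ aG.act = lift g x ≫ aG.act
      rw [hsa, ← act_mul, inv_mul_cancel_right, act_mul, hx σ]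
  have hDmul : ∀ g g' d, D g (D g' d) = D (g * g') d := fun g g' d => by
    refine Prod.ext (funext fun σ => ?_) (act_mul aG g g' d.2).symm
    show g * (g' * d.1 σ * (σ • g')⁻¹) * (σ • g)⁻¹ = g * g' * d.1 σ * (σ • (g * g'))⁻¹
    rw [smul_mul', mul_inv_rev]
    group
  have hD1 : ∀ d, D 1 d = d := fun d => by
    refine Prod.ext (funext fun σ => ?_) (act_one aG d.2)
    show 1 * d.1 σ * (σ • 1)⁻¹ = d.1 σ
    rw [smul_one, inv_one, _root_.mul_one, _root_.one_mul]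
  let E : StackCountLib.compatSet K aH → StackCountLib.compatSet K aG := fun d =>
    ⟨(fun σ => d.1.1 σ ≫ iH, d.1.2), fun σ τ => by
      show d.1.1 (σ * τ) ≫ iH = (d.1.1 σ ≫ iH) * σ • (d.1.1 τ ≫ iH)
      rw [d.2.1, MonObj.mul_comp, hsm], fun σ => by
      show lift (d.1.1 σ ≫ iH) (σ • d.1.2) ≫ aG.act = d.1.2
      rw [← hH]; exact d.2.2 σ⟩
  let Φ : SGA7.Pts K U × StackCountLib.compatSet K aH → StackCountLib.compatSet K aG :=
    fun p => ⟨D (p.1 ≫ iU) (E p.2).1, hDmem _ _ (E p.2).2⟩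
  have hπD : ∀ (u : SGA7.Pts K U) (d : StackCountLib.compatSet K aH) σ,
      (D (u ≫ iU) (E d).1).1 σ ≫ π = d.1.1 σ := fun u d σ => by
    show ((u ≫ iU) * (d.1.1 σ ≫ iH) * (σ • (u ≫ iU))⁻¹) ≫ π = _
    rw [hsm, MonObj.mul_comp, MonObj.mul_comp, GrpObj.inv_comp, Category.assoc, Category.assoc, Category.assoc, h1,
      h2, MonObj.comp_one, MonObj.comp_one, Category.comp_id, inv_one, _root_.mul_one, _root_.one_mul]
  have hΦs : Function.Surjective Φ := by
    rintro ⟨⟨w, x⟩, hwx⟩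
    obtain ⟨u, hu⟩ := UnipCountLib.exists_reduce K iH iU π h1 h2 hcart w hwx.1
    have hE : D (u ≫ iU) (w, x) = (fun σ => (w σ ≫ π) ≫ iH, lift (u ≫ iU) x ≫ aG.act) :=
      Prod.ext (funext hu) rfl
    have hmem := hDmem (u ≫ iU) _ hwx
    rw [hE] at hmem
    have hmemH : ((fun σ => w σ ≫ π, lift (u ≫ iU) x ≫ aG.act) :
        ((K ≃ₐ[k] K) → SGA7.Pts K H) × SGA7.Pts K X) ∈ StackCountLib.compatSet K aH :=
      ⟨fun σ τ => by
        show w (σ * τ) ≫ π = (w σ ≫ π) * σ • (w τ ≫ π)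
        rw [show w (σ * τ) = w σ * σ • w τ from hwx.1 σ τ, MonObj.mul_comp, hsm], fun σ => by rw [hH]; exact hmem.2 σ⟩
    refine ⟨(u⁻¹, ⟨_, hmemH⟩), Subtype.ext ?_⟩
    show D (u⁻¹ ≫ iU) (fun σ => (w σ ≫ π) ≫ iH, lift (u ≫ iU) x ≫ aG.act) = (w, x)
    rw [← hE, hDmul, GrpObj.inv_comp, inv_mul_cancel, hD1]
  have hfib : ∀ e : StackCountLib.compatSet K aG, Nat.card {p // Φ p = e} = N := fun e => by
    obtain ⟨⟨u₀, d₀⟩, rfl⟩ := hΦs e
    let z : GpH1.OneCocycle (K ≃ₐ[k] K) (SGA7.Pts K H) := ⟨d₀.1.1, d₀.2.1⟩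
    let ι₀ : K →ₐ[k] kb := IntermediateField.val K
    rw [← hN z, ← Nat.card_congr (Equiv.subtypeEquivRight (p := fun u => ∀ σ : K ≃ₐ[k] K, lift (z σ) (σ • u) ≫ c.act = u)
      fun u => forall_congr' fun σ => by rw [← cancel_mono iU, hcev])]
    have hsh : ∀ p : SGA7.Pts K U × StackCountLib.compatSet K aH, Φ p = Φ (u₀, d₀) →
        D ((u₀⁻¹ * p.1) ≫ iU) (E p.2).1 = (E d₀).1 ∧ p.2.1.1 = d₀.1.1 := fun p hp => by
      have hp' : D (p.1 ≫ iU) (E p.2).1 = D (u₀ ≫ iU) (E d₀).1 := congrArg Subtype.val hp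
      refine ⟨?_, funext fun σ => ?_⟩
      · rw [MonObj.mul_comp, GrpObj.inv_comp, ← hDmul, hp', hDmul, inv_mul_cancel, hD1]
      · rw [← hπD p.1 p.2 σ, hp', hπD]
    refine Nat.card_congr
      { toFun := fun p => ⟨u₀⁻¹ * p.1.1, fun σ => ?_⟩
        invFun := fun t => ⟨(u₀ * t.1, ⟨(d₀.1.1, lift ((t.1)⁻¹ ≫ iU) d₀.1.2 ≫ aG.act), d₀.2.1, fun σ => ?_⟩), ?_⟩
        left_inv := fun p => ?_
        right_inv := fun t => Subtype.ext (inv_mul_cancel_left _ _) }
    · obtain ⟨hp, hh⟩ := hsh p.1 p.2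
      have h := congrFun (congrArg Prod.fst hp) σ
      change ((u₀⁻¹ * p.1.1) ≫ iU) * (p.1.2.1.1 σ ≫ iH) * (σ • ((u₀⁻¹ * p.1.1) ≫ iU))⁻¹ = d₀.1.1 σ ≫ iH at h
      rw [hh, hsm] at h
      rw [← cancel_mono iU, hcev]
      show (d₀.1.1 σ ≫ iH) * ((σ • (u₀⁻¹ * p.1.1)) ≫ iU) * (d₀.1.1 σ ≫ iH)⁻¹ = _
      rw [mul_inv_eq_iff_eq_mul] at h
      rw [← h, mul_inv_cancel_right]
    · have ht := congrArg (· ≫ iU) (t.2 σ)
      simp only [hcev] at ht
      change (d₀.1.1 σ ≫ iH) * ((σ • t.1) ≫ iU) * (d₀.1.1 σ ≫ iH)⁻¹ = t.1 ≫ iU at ht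
      show lift (d₀.1.1 σ) (σ • (lift ((t.1)⁻¹ ≫ iU) d₀.1.2 ≫ aG.act)) ≫ aH.act = lift ((t.1)⁻¹ ≫ iU) d₀.1.2 ≫ aG.act
      rw [hH, hsa, hsm, ← act_mul]
      rw [show (d₀.1.1 σ ≫ iH) * ((σ • (t.1)⁻¹) ≫ iU) = ((t.1)⁻¹ ≫ iU) * (d₀.1.1 σ ≫ iH) by
        rw [smul_inv', GrpObj.inv_comp, GrpObj.inv_comp, ← ht]; group, act_mul, ← hH, d₀.2.2 σ]
    · refine Subtype.ext ?_
      show D ((u₀ * t.1) ≫ iU) (fun σ => d₀.1.1 σ ≫ iH, lift ((t.1)⁻¹ ≫ iU) d₀.1.2 ≫ aG.act) = D (u₀ ≫ iU) (E d₀).1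
      rw [MonObj.mul_comp, ← hDmul]
      congr 1
      refine Prod.ext (funext fun σ => ?_) ?_
      · have ht := congrArg (· ≫ iU) (t.2 σ)
        simp only [hcev] at ht
        show (t.1 ≫ iU) * (d₀.1.1 σ ≫ iH) * (σ • (t.1 ≫ iU))⁻¹ = d₀.1.1 σ ≫ iH
        rw [hsm]
        change (d₀.1.1 σ ≫ iH) * ((σ • t.1) ≫ iU) * (d₀.1.1 σ ≫ iH)⁻¹ = t.1 ≫ iU at ht
        rw [← ht]
        group
      · show lift (t.1 ≫ iU) (lift ((t.1)⁻¹ ≫ iU) d₀.1.2 ≫ aG.act) ≫ aG.act = d₀.1.2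
        rw [← act_mul, GrpObj.inv_comp, mul_inv_cancel, act_one]
    · obtain ⟨hp, hh⟩ := hsh p.1 p.2
      have h2' := congrArg Prod.snd hp
      refine Subtype.ext (Prod.ext (mul_inv_cancel_left _ _) (Subtype.ext (Prod.ext hh.symm ?_)))
      show lift ((u₀⁻¹ * p.1.1)⁻¹ ≫ iU) d₀.1.2 ≫ aG.act = p.1.2.1.2
      rw [← show lift ((u₀⁻¹ * p.1.1) ≫ iU) p.1.2.1.2 ≫ aG.act = d₀.1.2 from h2', ← act_mul, GrpObj.inv_comp,
        inv_mul_cancel, act_one]
  refine ⟨?_, ?_⟩
  · haveI : Fintype (StackCountLib.compatSet K aG) := Fintype.ofFinite _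
    rw [← Nat.card_prod, ← Nat.card_congr (Equiv.sigmaFiberEquiv Φ), Nat.card_sigma, Finset.sum_congr rfl fun e _ => hfib e,
      Finset.sum_const, Finset.card_univ, smul_eq_mul, Nat.card_eq_fintype_card]
  · rw [← Nat.card_prod]
    exact Nat.card_congr
      { toFun := fun g => (g ≫ π, g ≫ ρ)
        invFun := fun p => (p.1 ≫ iH) * (p.2 ≫ iU)
        left_inv := fun g => hdec g
        right_inv := fun p => Prod.ext (huniq _ _).1 (huniq _ _).2 }

/-- Restriction of an action along a homomorphism. -/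
def restrictAct {k : Type u} [Field k] {G D X : Over (Spec (CommRingCat.of k))} [GrpObj G] [GrpObj D]
    (a : AlgGrp.Action G X) (i : D ⟶ G) [IsMonHom i] : AlgGrp.Action D X where
  act := (i ▷ X) ≫ a.act
  one_act := by
    rw [← Category.assoc, ← comp_whiskerRight, IsMonHom.one_hom i, a.one_act]
  mul_act := by
    rw [← Category.assoc, ← comp_whiskerRight, IsMonHom.mul_hom i, comp_whiskerRight, Category.assoc, a.mul_act,
      MonoidalCategory.tensorHom_def, comp_whiskerRight, MonoidalCategory.whiskerLeft_comp]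
    simp only [Category.assoc, associator_naturality_middle_assoc, associator_naturality_left_assoc,
      whisker_exchange_assoc]

/-- A cocycle with values in a connected group over a finite field is trivial. -/
theorem exists_triv {k : Type u} [Field k] [Finite k] {kb : Type u} [Field kb] [Algebra k kb] [IsAlgClosure k kb]
    (π₀ : kb ≃ₐ[k] kb) (hπ : ∀ x : kb, π₀ x = x ^ Nat.card k) (K : IntermediateField k kb) [FiniteDimensional k K]
    [Normal k K] (H : Over (Spec (CommRingCat.of k))) [GrpObj H] [Smooth H.hom] [QuasiCompact H.hom]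
    [ConnectedSpace H.left] (z : GpH1.OneCocycle (K ≃ₐ[k] K) (SGA7.Pts K H)) :
    ∃ c : SGA7.Pts K H, ∀ σ : K ≃ₐ[k] K, z σ = c * (σ • c)⁻¹ := by
  haveI : IsAlgClosed kb := IsAlgClosure.isAlgClosed k
  haveI : Algebra.IsAlgebraic k kb := IsAlgClosure.isAlgebraic
  haveI : Normal k kb := IsAlgClosure.normal k kb
  haveI : IsGalois k kb := ⟨⟩
  let W : (kb ≃ₐ[k] kb) → SGA7.Pts kb H := fun σ =>
    StackCountLib.res (IntermediateField.val K) (z (AlgEquiv.restrictNormalHom (F := k) (K₁ := kb) K σ))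
  have hW : ∀ σ τ, W (σ * τ) = W σ * σ • W τ := fun σ τ => by
    show StackCountLib.res _ _ = _ * σ • StackCountLib.res _ _
    rw [StackCountLib.smul_res_val, map_mul, z.2]
    exact MonObj.comp_mul _ _ _
  have hW1 : ∀ σ ∈ K.fixingSubgroup, W σ = 1 := fun σ hσ => by
    show StackCountLib.res _ _ = _
    rw [StackCountLib.rs_eq_one K hσ, GalTw.oneCocycle_one]
    exact MonObj.comp_one _
  obtain ⟨x, hx⟩ := UnipCountLib.exists_lang k kb π₀ hπ H (W π₀)
  have hp : ∀ j : ℕ, W (π₀ ^ j) = x * ((π₀ ^ j) • x)⁻¹ := fun j => by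
    induction j with
    | zero => rw [pow_zero, hW1 1 (one_mem _), one_smul, mul_inv_cancel]
    | succ j ih =>
      rw [pow_succ', hW, ih, ← hx, smul_mul', smul_inv', mul_smul]
      group
  obtain ⟨L, _, hL⟩ := LangGenLib.exists_field_fix H x
  have hall : ∀ σ, W σ = x * (σ • x)⁻¹ := fun σ => by
    obtain ⟨j, hj⟩ := UnipCountLib.exists_pow π₀ hπ (K ⊔ L) σ
    have e : σ • x = (π₀ ^ j) • x := by
      conv_rhs => rw [← hL _ (IntermediateField.fixingSubgroup_antitone le_sup_right hj)]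
      rw [← mul_smul, mul_inv_cancel_left]
    have e' : W σ = W (π₀ ^ j) := by
      conv_lhs => rw [← mul_inv_cancel_left (π₀ ^ j) σ, hW, hW1 _ (IntermediateField.fixingSubgroup_antitone le_sup_left hj),
        smul_one, _root_.mul_one]
    rw [e', hp, e]
  obtain ⟨c, hc⟩ := StackCountLib.exists_res_val K (x := x) fun σ hσ => by
    have h := hall σ
    rw [hW1 σ hσ, eq_comm, mul_inv_eq_one] at h
    exact h.symm
  refine ⟨c, fun σ => StackCountLib.res_injective (IntermediateField.val K) H ?_⟩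
  obtain ⟨σ', rfl⟩ := StackCountLib.rs_surjective (kb := kb) K σ
  show W σ' = StackCountLib.resHom (IntermediateField.val K) H (c * _)
  rw [hall, map_mul, map_inv, ← hc, StackCountLib.smul_res_val]
  rfl

/-- The rational points are the fixed points in a finite Galois extension. -/
theorem card_fixed_mid {k : Type u} [Field k] (K : Type u) [Field K] [Algebra k K] [IsGalois k K]
    (Y : Over (Spec (CommRingCat.of k))) :
    Nat.card {y : SGA7.Pts K Y // ∀ σ : K ≃ₐ[k] K, σ • y = y} = Nat.card (SGA7.Pts k Y) :=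
  Nat.card_congr (Equiv.ofBijective _ (StackCountLib.fixed_bijective (L' := K) Y)).symm

/-- The points fixed by a Galois action twisted through a connected group are as many as the rational points. -/
theorem card_fixed_twist {k : Type u} [Field k] [Finite k] {kb : Type u} [Field kb] [Algebra k kb] [IsAlgClosure k kb]
    (π₀ : kb ≃ₐ[k] kb) (hπ : ∀ x : kb, π₀ x = x ^ Nat.card k) (K : IntermediateField k kb) [FiniteDimensional k K]
    [Normal k K] (H V : Over (Spec (CommRingCat.of k))) [GrpObj H] [Smooth H.hom] [QuasiCompact H.hom]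
    [ConnectedSpace H.left] (a : AlgGrp.Action H V) (z : GpH1.OneCocycle (K ≃ₐ[k] K) (SGA7.Pts K H)) :
    Nat.card {v : SGA7.Pts K V // ∀ σ : K ≃ₐ[k] K, lift (z σ) (σ • v) ≫ a.act = v} = Nat.card (SGA7.Pts k V) := by
  haveI : Algebra.IsAlgebraic k kb := IsAlgClosure.isAlgebraic
  haveI : Normal k kb := IsAlgClosure.normal k kb
  haveI : IsGalois k kb := ⟨⟩
  haveI : IsGalois k K := ⟨⟩
  obtain ⟨c, hc⟩ := exists_triv π₀ hπ K H z
  rw [← card_fixed_mid K V]
  refine Nat.card_congr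
    { toFun := fun v => ⟨lift c⁻¹ v.1 ≫ a.act, fun σ => ?_⟩
      invFun := fun v => ⟨lift c v.1 ≫ a.act, fun σ => ?_⟩
      left_inv := fun v => Subtype.ext (by
        show lift c (lift c⁻¹ v.1 ≫ a.act) ≫ a.act = v.1
        rw [← act_mul, mul_inv_cancel, act_one])
      right_inv := fun v => Subtype.ext (by
        show lift c⁻¹ (lift c v.1 ≫ a.act) ≫ a.act = v.1
        rw [← act_mul, inv_mul_cancel, act_one]) }
  · show σ • (lift c⁻¹ v.1 ≫ a.act) = lift c⁻¹ v.1 ≫ a.act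
    conv_rhs => rw [← v.2 σ, ← act_mul, hc, ← _root_.mul_assoc, inv_mul_cancel, _root_.one_mul]
    rw [smul_act, smul_inv']
  · show lift (z σ) (σ • (lift c v.1 ≫ a.act)) ≫ a.act = lift c v.1 ≫ a.act
    rw [smul_act, ← act_mul, hc, inv_mul_cancel_right, v.2 σ]

/-- The rational points of affine space. -/
theorem card_affine {k : Type u} [Field k] [Finite k] (V : Over (Spec (CommRingCat.of k))) (n : ℕ)
    (eV : V.left ≅ 𝔸(ULift.{u} (Fin n); Spec (CommRingCat.of k)))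
    (heV : eV.hom ≫ (𝔸(ULift.{u} (Fin n); Spec (CommRingCat.of k)) ↘ Spec (CommRingCat.of k)) = V.hom) :
    Nat.card (SGA7.Pts k V) = Nat.card k ^ n := by
  letI : (Spec (CommRingCat.of k)).Over (Spec (CommRingCat.of k)) := ⟨(SGA7.pt (K := k) k).hom⟩
  let e : SGA7.Pts k V ≃ {f : Spec (CommRingCat.of k) ⟶ 𝔸(ULift.{u} (Fin n); Spec (CommRingCat.of k)) //
      f.IsOver (Spec (CommRingCat.of k))} :=
    { toFun := fun y => ⟨y.left ≫ eV.hom, ⟨by rw [Category.assoc, heV]; exact Over.w y⟩⟩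
      invFun := fun f => Over.homMk (f.1 ≫ eV.inv) (by
        rw [← heV, Category.assoc, Iso.inv_hom_id_assoc]
        exact f.2.comp_over)
      left_inv := fun y => Over.OverMorphism.ext (by simp)
      right_inv := fun f => Subtype.ext (by simp) }
  rw [Nat.card_congr (e.trans (AffineSpace.homOverEquiv _)), Nat.card_fun,
    Nat.card_congr (Scheme.ΓSpecIso (CommRingCat.of k)).commRingCatIsoToRingEquiv.toEquiv]
  simp


end UnipStabLib
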