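import Groth.Agent.UnipStabLib.Points
import Groth.Agent.GrpFieldLib.Comps
import Groth.Agent.GrpHomLib.Field
import Groth.Agent.SubSpecLib.RedSub

/-!
# Stabilisers and the points of their identity components
-/

set_option autoImplicit false
set_option linter.all false
set_option backward.isDefEq.respectTransparency false
set_option backward.isDefEq.respectTransparency.types false
set_option maxHeartbeats 1000000
set_option synthInstance.maxHeartbeats 400000

noncomputable section

universe u

open CategoryTheory CategoryTheory.Limits MonoidalCategory CartesianMonoidalCategory MonObj AlgebraicGeometry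
open Groth.Agent Groth.Agent.GrpField

attribute [-instance] CategoryTheory.Hom.commGroup

namespace UnipStabLib

section Comp

variable {K : Type u} [Field K] (S : Over (Spec (CommRingCat.of K))) [GrpObj S]

theorem secPt_one : secPt (1 : 𝟙_ (Over (Spec (CommRingCat.of K))) ⟶ S) = unitPt S := by
  rw [Hom.one_def, toUnit_unique (toUnit (𝟙_ _)) (𝟙 _), Category.id_comp]
  rfl

/-- A translated identity component meeting the identity component stays in it. -/
theorem mem_Z0_of_map (f : S ⟶ S) (p q : 𝟙_ (Over (Spec (CommRingCat.of K))) ⟶ S) (hp : secPt p ∈ Z0 S)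
    (hq : secPt q ∈ Z0 S) (h : secPt (p ≫ f) ∈ Z0 S) : secPt (q ≫ f) ∈ Z0 S := by
  rw [← connectedComponent_unit] at hp hq h ⊢
  have hc := (isPreconnected_connectedComponent (x := unitPt S)).image _ f.left.continuous.continuousOn
  have := hc.subset_connectedComponent ⟨secPt p, hp, rfl⟩ ⟨secPt q, hq, rfl⟩
  rw [connectedComponent_eq h]
  exact this

/-- The rational points of the identity component. -/
def zeroPts : Subgroup (𝟙_ (Over (Spec (CommRingCat.of K))) ⟶ S) where
  carrier := {z | secPt z ∈ Z0 S}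
  one_mem' := by
    show secPt _ ∈ Z0 S
    rw [secPt_one]
    exact unitPt_mem_Z0 S
  mul_mem' := fun {a b} ha hb => by
    have key : ∀ c, c ≫ ((toUnit S ≫ a) * 𝟙 S) = a * c := fun c => by
      rw [MonObj.comp_mul, ← Category.assoc, toUnit_unique (c ≫ toUnit S) (𝟙 _), Category.id_comp, Category.comp_id]
    show secPt (a * b) ∈ Z0 S
    rw [← key b]
    refine mem_Z0_of_map S _ 1 b ?_ hb ?_
    · rw [secPt_one]; exact unitPt_mem_Z0 S
    · rw [key, _root_.mul_one]; exact ha
  inv_mem' := fun {a} ha => by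
    have key : ∀ c, c ≫ ((toUnit S ≫ a⁻¹) * 𝟙 S) = a⁻¹ * c := fun c => by
      rw [MonObj.comp_mul, ← Category.assoc, toUnit_unique (c ≫ toUnit S) (𝟙 _), Category.id_comp, Category.comp_id]
    show secPt a⁻¹ ∈ Z0 S
    rw [← _root_.mul_one a⁻¹, ← key 1]
    refine mem_Z0_of_map S _ a 1 ha ?_ ?_
    · rw [secPt_one]; exact unitPt_mem_Z0 S
    · rw [key, inv_mul_cancel, secPt_one]; exact unitPt_mem_Z0 S

instance zeroPts_normal : (zeroPts S).Normal := ⟨fun n hn g => by
  have key : ∀ c, c ≫ ((toUnit S ≫ g) * 𝟙 S * (toUnit S ≫ g⁻¹)) = g * c * g⁻¹ := fun c => by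
    simp only [MonObj.comp_mul, ← Category.assoc, toUnit_unique (c ≫ toUnit S) (𝟙 _), Category.id_comp, Category.comp_id]
  show secPt (g * n * g⁻¹) ∈ Z0 S
  rw [← key n]
  refine mem_Z0_of_map S _ 1 n ?_ hn ?_
  · rw [secPt_one]; exact unitPt_mem_Z0 S
  · rw [key, _root_.mul_one, mul_inv_cancel, secPt_one]; exact unitPt_mem_Z0 S⟩

theorem finite_quot_zeroPts [LocallyOfFiniteType S.hom] [QuasiCompact S.hom] :
    Finite ((𝟙_ (Over (Spec (CommRingCat.of K))) ⟶ S) ⧸ zeroPts S) := by
  classical
  haveI : CompactSpace S.left := QuasiCompact.compactSpace_of_compactSpace S.hom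
  haveI : IsLocallyNoetherian S.left := LocallyOfFiniteType.isLocallyNoetherian S.hom
  haveI : IsNoetherian S.left := {}
  haveI := (TopologicalSpace.NoetherianSpace.finite_irreducibleComponents (α := ↥S.left)).to_subtype
  let rep : irreducibleComponents ↥S.left → (𝟙_ (Over (Spec (CommRingCat.of K))) ⟶ S) :=
    fun C => if h : ∃ y, secPt y ∈ C.1 then h.choose else 1
  refine Finite.of_surjective (fun C => (QuotientGroup.mk (rep C) : _ ⧸ zeroPts S)) fun Q => ?_
  induction Q using QuotientGroup.induction_on with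
  | _ y =>
    obtain ⟨C, hC, hsub⟩ := exists_mem_irreducibleComponents_subset_of_isIrreducible ({secPt y} : Set ↥S.left)
      isIrreducible_singleton
    have hex : ∃ y, secPt y ∈ (⟨C, hC⟩ : irreducibleComponents ↥S.left).1 := ⟨y, hsub rfl⟩
    refine ⟨⟨C, hC⟩, QuotientGroup.eq.2 ?_⟩
    have hr : secPt (rep ⟨C, hC⟩) ∈ C := by
      simp only [rep, dif_pos hex]
      exact hex.choose_spec
    let f : S ⟶ S := (toUnit S ≫ (rep ⟨C, hC⟩)⁻¹) * 𝟙 S
    have key : ∀ c, c ≫ f = (rep ⟨C, hC⟩)⁻¹ * c := fun c => by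
      simp only [f, MonObj.comp_mul, ← Category.assoc, toUnit_unique (c ≫ toUnit S) (𝟙 _), Category.id_comp,
        Category.comp_id]
    show secPt _ ∈ Z0 S
    rw [← key, ← connectedComponent_unit]
    refine (hC.1.2.isPreconnected.image _ f.left.continuous.continuousOn).subset_connectedComponent ?_
      ⟨_, hsub rfl, rfl⟩
    refine ⟨_, hr, ?_⟩
    show secPt (rep ⟨C, hC⟩ ≫ f) = unitPt S
    rw [key, inv_mul_cancel, secPt_one]

end Comp

section Stab

variable {k : Type u} [Field k] {kb : Type u} [Field kb] [Algebra k kb]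

set_option quotPrecheck false in
local notation "tb" => (SGA7.pt (K := k) kb).hom

/-- A stabiliser given by its points is a closed subgroup. -/
theorem isClosedImmersion_stab {G X : Over (Spec (CommRingCat.of k))} [GrpObj G] [LocallyOfFiniteType G.hom]
    [QuasiCompact G.hom] [LocallyOfFiniteType X.hom] (aX : AlgGrp.Action G X) (x : SGA7.Pts kb X)
    {S : Over (Spec (CommRingCat.of kb))} [GrpObj S] (s : S ⟶ GalTw.bcK kb G) [IsMonHom s] [Mono s]
    (hS : ∀ (T : Over (Spec (CommRingCat.of kb))) (g : (Over.map tb).obj T ⟶ G),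
      (∃ g' : T ⟶ S, g' ≫ s = (Over.mapPullbackAdj tb).homEquiv T G g) ↔
        lift g ((Over.homMk T.hom rfl : (Over.map tb).obj T ⟶ SGA7.pt (K := k) kb) ≫ x) ≫ aX.act =
          (Over.homMk T.hom rfl : (Over.map tb).obj T ⟶ SGA7.pt (K := k) kb) ≫ x) :
    IsClosedImmersion s.left := by
  let GP := G ⊗ SGA7.pt (K := k) kb
  let o : GP ⟶ X := lift (fst G _) (snd G _ ≫ x) ≫ aX.act
  let q : GP ⟶ X := snd G _ ≫ x
  let Δ : X ⟶ X ⊗ X := lift (𝟙 X) (𝟙 X)
  haveI hΔ : IsImmersion Δ.left := by
    have : Δ.left = pullback.diagonal X.hom := by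
      refine pullback.hom_ext ?_ ?_
      · refine Eq.trans ?_ (pullback.diagonal_fst _).symm
        show Δ.left ≫ (fst X X).left = _
        rw [← Over.comp_left, lift_fst]; rfl
      · refine Eq.trans ?_ (pullback.diagonal_snd _).symm
        show Δ.left ≫ (snd X X).left = _
        rw [← Over.comp_left, lift_snd]; rfl
    rw [this]; infer_instance
  let E := Limits.pullback (lift o q) Δ
  let i : E ⟶ GP := pullback.fst (lift o q) Δ
  haveI : IsImmersion i.left :=
    MorphismProperty.of_isPullback (P := @IsImmersion)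
      ((IsPullback.of_hasPullback (lift o q) Δ).map (Over.forget _)).flip hΔ
  have hio : i ≫ o = i ≫ q := by
    have h := pullback.condition (f := lift o q) (g := Δ)
    have h1 := congrArg (· ≫ fst X X) h
    have h2 := congrArg (· ≫ snd X X) h
    simp only [Category.assoc, lift_fst, lift_snd, Δ, Category.comp_id] at h1 h2
    exact h1.trans h2.symm
  let T : Over (Spec (CommRingCat.of kb)) := Over.mk (i.left ≫ (snd G (SGA7.pt (K := k) kb)).left)
  let cc : T ⟶ GalTw.bcK kb G := Over.homMk i.left rfl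
  haveI : IsImmersion cc.left := inferInstanceAs (IsImmersion i.left)
  haveI : Mono cc := Over.mono_of_mono_left cc
  let j : (Over.map tb).obj T ⟶ E := Over.homMk (𝟙 _) (by
    show 𝟙 _ ≫ E.hom = (i.left ≫ (snd G (SGA7.pt (K := k) kb)).left) ≫ tb
    rw [Category.id_comp, Category.assoc]
    exact (Over.w i).symm.trans (congrArg (i.left ≫ ·) (Over.w (snd G (SGA7.pt (K := k) kb))).symm))
  have hsym : ∀ {V : Over (Spec (CommRingCat.of kb))} (c : V ⟶ GalTw.bcK kb G) (W : (Over.map tb).obj V ⟶ GP),
      W.left = c.left → (W ≫ fst G _ = ((Over.mapPullbackAdj tb).homEquiv V G).symm c ∧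
        W ≫ snd G _ = Over.homMk V.hom rfl) := fun {V} c W hW => by
    refine ⟨?_, ?_⟩
    · refine Over.OverMorphism.ext ?_
      rw [Adjunction.homEquiv_counit]
      show W.left ≫ _ = c.left ≫ _
      rw [hW]
      rfl
    · refine Over.OverMorphism.ext ?_
      show W.left ≫ _ = V.hom
      rw [hW]
      exact Over.w c
  -- the equaliser lies in the stabiliser
  obtain ⟨hW1, hW2⟩ := hsym cc (j ≫ i) (Category.id_comp _)
  obtain ⟨g', hg'⟩ := (hS T (((Over.mapPullbackAdj tb).homEquiv T G).symm cc)).2 (by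
    have h := congrArg (j ≫ ·) hio
    simp only [o, q, ← Category.assoc, comp_lift, hW1, hW2] at h
    exact h)
  rw [Equiv.apply_symm_apply] at hg'
  -- the stabiliser lies in the equaliser
  let W : (Over.map tb).obj S ⟶ GP := Over.homMk s.left (by
    show s.left ≫ GP.hom = S.hom ≫ tb
    rw [← Over.w s, Category.assoc]
    exact congrArg (s.left ≫ ·) (Over.w (snd G (SGA7.pt (K := k) kb))).symm)
  obtain ⟨hS1, hS2⟩ := hsym s W rfl
  have hWo : W ≫ o = W ≫ q := by
    have h := (hS S (((Over.mapPullbackAdj tb).homEquiv S G).symm s)).1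
      ⟨𝟙 S, by rw [Category.id_comp, Equiv.apply_symm_apply]⟩
    simp only [o, q, ← Category.assoc, comp_lift, hS1, hS2]
    exact h
  let r₀ : (Over.map tb).obj S ⟶ E := pullback.lift W (W ≫ o) (by
    refine CartesianMonoidalCategory.hom_ext _ _ ?_ ?_ <;> simp [Δ, hWo])
  have hr₀ : r₀ ≫ i = W := pullback.lift_fst _ _ _
  have hr : r₀.left ≫ i.left = s.left := congrArg (fun f : (Over.map tb).obj S ⟶ GP => f.left) hr₀
  let r : S ⟶ T := Over.homMk r₀.left (by
    show r₀.left ≫ i.left ≫ _ = S.hom
    rw [← Category.assoc, hr]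
    exact Over.w s)
  have hrs : r ≫ cc = s := Over.OverMorphism.ext hr
  haveI : IsIso r := ⟨g', (cancel_mono s).1 (by rw [Category.assoc, hg', hrs, Category.id_comp]),
    (cancel_mono cc).1 (by rw [Category.assoc, hrs, hg', Category.id_comp])⟩
  haveI : IsIso r.left := ((Over.forget _).mapIso (asIso r)).isIso_hom
  haveI : IsImmersion s.left := by rw [← hrs, Over.comp_left]; infer_instance
  haveI : LocallyOfFiniteType (GalTw.bcK kb G).hom := inferInstanceAs (LocallyOfFiniteType (pullback.snd G.hom tb))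
  haveI : QuasiCompact (GalTw.bcK kb G).hom := inferInstanceAs (QuasiCompact (pullback.snd G.hom tb))
  haveI : IsLocallyNoetherian (GalTw.bcK kb G).left := LocallyOfFiniteType.isLocallyNoetherian (GalTw.bcK kb G).hom
  haveI : Mono s.left := inferInstance
  haveI : LocallyOfFiniteType S.hom := by rw [← Over.w s]; infer_instance
  haveI : CompactSpace (GalTw.bcK kb G).left := QuasiCompact.compactSpace_of_compactSpace (GalTw.bcK kb G).hom
  haveI : IsNoetherian (GalTw.bcK kb G).left := {}
  haveI : TopologicalSpace.NoetherianSpace S.left := s.left.isEmbedding.isInducing.noetherianSpace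
  haveI : QuasiCompact s.left := ⟨fun U _ _ => TopologicalSpace.NoetherianSpace.isCompact _⟩
  exact GrpHom.isClosedImmersion_of_mono s

end Stab

end UnipStabLib
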