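import Groth.Agent.UnipStabLib.Points
import Groth.Agent.UnipCountLib.Compat
import Groth.Agent.SubSpecLib.RedSub

/-!
# Descent of a Galois stable closed subgroup
-/

set_option autoImplicit false
set_option linter.all false
set_option backward.isDefEq.respectTransparency false
set_option backward.isDefEq.respectTransparency.types false
set_option maxHeartbeats 1000000
set_option synthInstance.maxHeartbeats 400000

noncomputable section

universe u

open CategoryTheory CategoryTheory.Limits MonoidalCategory CartesianMonoidalCategory MonObj AlgebraicGeometry TopologicalSpace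
open Groth.Agent

attribute [-instance] CategoryTheory.Hom.commGroup

namespace UnipStabLib

variable {k : Type u} [Field k] [Finite k] {kb : Type u} [Field kb] [Algebra k kb] [IsAlgClosure k kb]

/-- A subgroup stable under Frobenius is stable under the Galois group. -/
theorem stable_of_frob (π₀ : kb ≃ₐ[k] kb) (hπ : ∀ x : kb, π₀ x = x ^ Nat.card k)
    (Y : Over (Spec (CommRingCat.of k))) [LocallyOfFiniteType Y.hom] (P : SGA7.Pts kb Y → Prop)
    (h : ∀ y, P y → P (π₀ • y)) (σ : kb ≃ₐ[k] kb) (y : SGA7.Pts kb Y) (hy : P y) : P (σ • y) := by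
  haveI : Algebra.IsAlgebraic k kb := IsAlgClosure.isAlgebraic
  obtain ⟨L, _, hL⟩ := LangGenLib.exists_field_fix Y y
  obtain ⟨j, hj⟩ := UnipCountLib.exists_pow π₀ hπ L σ
  have e : σ • y = (π₀ ^ j) • y := by
    conv_rhs => rw [← hL _ hj]
    rw [← mul_smul, mul_inv_cancel_left]
  rw [e]
  clear e hj
  induction j with
  | zero => rwa [pow_zero, one_smul]
  | succ j ih => rw [pow_succ', mul_smul]; exact h _ ih

/-- Descent of a Frobenius stable closed subgroup. -/
theorem exists_descent (π₀ : kb ≃ₐ[k] kb) (hπ : ∀ x : kb, π₀ x = x ^ Nat.card k)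
    (G' : Over (Spec (CommRingCat.of k))) [GrpObj G'] [LocallyOfFiniteType G'.hom] [IsAffineHom G'.hom]
    {S : Over (Spec (CommRingCat.of kb))} [GrpObj S] (s : S ⟶ GalTw.bcK kb G') [IsMonHom s]
    [IsClosedImmersion s.left]
    (hst : ∀ y : SGA7.Pts kb G', (∃ z, z ≫ s = bcEquiv kb G' y) → ∃ z, z ≫ s = bcEquiv kb G' (π₀ • y)) :
    ∃ (I : Over (Spec (CommRingCat.of k))) (_ : GrpObj I) (i : I ⟶ G') (_ : IsMonHom i),
      IsClosedImmersion i.left ∧ Smooth I.hom ∧
      (∀ y : SGA7.Pts kb G', (∃ z : SGA7.Pts kb I, z ≫ i = y) ↔ ∃ z, z ≫ s = bcEquiv kb G' y) ∧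
      ∃ r : GalTw.bcK kb I ⟶ S, r ≫ s = (GalTwLib.bcF k kb).map i ∧ Surjective r.left ∧ IsClosedImmersion r.left := by
  haveI : IsAlgClosed kb := IsAlgClosure.isAlgClosed k
  haveI : Algebra.IsAlgebraic k kb := IsAlgClosure.isAlgebraic
  let t : Spec (CommRingCat.of kb) ⟶ Spec (CommRingCat.of k) := Spec.map (CommRingCat.ofHom (algebraMap k kb))
  haveI : IsIntegralHom t := IsIntegralHom.SpecMap_iff.2 (algebraMap_isIntegral_iff.2 inferInstance)
  let p : (GalTw.bcK kb G').left ⟶ G'.left := pullback.fst G'.hom t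
  haveI : IsIntegralHom p := MorphismProperty.pullback_fst (P := @IsIntegralHom) _ _ inferInstance
  haveI : LocallyOfFiniteType (GalTw.bcK kb G').hom := inferInstanceAs (LocallyOfFiniteType (pullback.snd G'.hom t))
  haveI : LocallyOfFiniteType S.hom := by rw [← Over.w s]; infer_instance
  let C : Closeds G'.left :=
    ⟨p '' Set.range s.left, p.isClosedMap _ s.left.isClosedEmbedding.isClosed_range⟩
  have hpt : ∀ y : SGA7.Pts kb G', ptOf kb y ∈ (C : Set G'.left) ↔ ∃ z, z ≫ s = bcEquiv kb G' y := fun y => by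
    refine ⟨?_, ?_⟩
    · rintro ⟨_, ⟨q, rfl⟩, hq⟩
      haveI : JacobsonSpace S.left := LocallyOfFiniteType.jacobsonSpace S.hom
      have hyc : IsClosed ({ptOf kb y} : Set G'.left) := by
        haveI : IsSeparated ((AVAmpleLib.bcF (k := k) kb).obj G').hom :=
          inferInstanceAs (IsSeparated (pullback.snd G'.hom t))
        have hc : IsClosed ({secPt (AVAmpleLib.bcPt kb y)} : Set (GalTw.bcK kb G').left) :=
          AVRigidLib.isClosed_pt (AVAmpleLib.bcPt kb y)
        have hp : p (secPt (AVAmpleLib.bcPt kb y)) = ptOf kb y := fst_secPt_bcPt y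
        have := p.isClosedMap _ hc
        rw [Set.image_singleton, hp] at this
        exact this
      obtain ⟨q', hq', hq'c⟩ := nonempty_inter_closedPoints (Z := (s.left ≫ p) ⁻¹' {ptOf kb y}) ⟨q, hq⟩
        (hyc.preimage (s.left ≫ p).continuous).isLocallyClosed
      obtain ⟨z, rfl⟩ := exists_sec S q' (mem_closedPoints_iff.1 hq'c)
      let y' := (bcEquiv kb G').symm (z ≫ s)
      have hy' : ptOf kb y' = ptOf kb y := by
        rw [← fst_secPt_bcPt y']
        show p (secPt (bcEquiv kb G' y')) = _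
        rw [MulEquiv.apply_symm_apply]
        exact hq'
      obtain ⟨σ, rfl⟩ := exists_smul_eq G' y' y hy'
      exact stable_of_frob π₀ hπ G' _ hst σ y' ⟨z, ((bcEquiv kb G').apply_symm_apply _).symm⟩
    · rintro ⟨z, hz⟩
      refine ⟨_, ⟨secPt z, rfl⟩, ?_⟩
      rw [← fst_secPt_bcPt y]
      show p (secPt (z ≫ s)) = p (secPt (bcEquiv kb G' y))
      rw [hz]
  have hmem : ∀ (a b : SGA7.Pts kb G'), (∃ z, z ≫ s = bcEquiv kb G' a) → (∃ z, z ≫ s = bcEquiv kb G' b) →
      ∃ z, z ≫ s = bcEquiv kb G' (a * b⁻¹) := fun a b ⟨z, hz⟩ ⟨z', hz'⟩ =>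
    ⟨z * z'⁻¹, by rw [MonObj.mul_comp, GrpObj.inv_comp, hz, hz', map_mul, map_inv]⟩
  have h1 : ∃ z, z ≫ s = bcEquiv kb G' 1 := ⟨1, by rw [MonObj.one_comp, map_one]⟩
  -- the reduced closed subscheme
  let J := Scheme.IdealSheafData.vanishingIdeal C
  haveI : IsReduced J.subscheme := DevissLib.isReduced_vanishingIdeal' _
  let I : Over (Spec (CommRingCat.of k)) := Over.mk (J.subschemeι ≫ G'.hom)
  let i : I ⟶ G' := Over.homMk J.subschemeι rfl
  haveI : IsClosedImmersion i.left := inferInstanceAs (IsClosedImmersion J.subschemeι)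
  haveI : IsReduced I.left := inferInstanceAs (IsReduced J.subscheme)
  haveI : LocallyOfFiniteType I.hom := inferInstanceAs (LocallyOfFiniteType (J.subschemeι ≫ G'.hom))
  haveI : Mono i := Over.mono_of_mono_left i
  have hr : Set.range i.left = (C : Set G'.left) := by
    show Set.range J.subschemeι = _
    rw [Scheme.IdealSheafData.range_subschemeι, Scheme.IdealSheafData.coe_support_vanishingIdeal]
  have hI : ∀ y : SGA7.Pts kb G', (∃ z : SGA7.Pts kb I, z ≫ i = y) ↔ ∃ z, z ≫ s = bcEquiv kb G' y := fun y => by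
    rw [← hpt, ← hr]
    refine ⟨?_, exists_lift_pts i y⟩
    rintro ⟨z, rfl⟩
    exact ⟨ptOf kb z, rfl⟩
  have hfac : ∀ (Z : Over (Spec (CommRingCat.of k))) [LocallyOfFiniteType Z.hom] (g : Z ⟶ G'), IsReduced Z.left →
      (∀ y : SGA7.Pts kb Z, ∃ z, z ≫ s = bcEquiv kb G' (y ≫ g)) → ∃ l : Z ⟶ I, l ≫ i = g := by
    intro Z _ g _ h
    obtain ⟨l, hl⟩ := AVAmpleLib.exists_lift_of_reduced i.left g.left (by
      rw [hr]
      rintro _ ⟨q, rfl⟩
      exact subset_of_pts (kb := kb) Z Set.univ (g.left ⁻¹' C) isClosed_univ (C.isClosed.preimage g.left.continuous)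
        (fun y _ => (hpt (y ≫ g)).2 (h y)) (Set.mem_univ q))
    refine ⟨Over.homMk l ?_, Over.OverMorphism.ext hl⟩
    rw [← Over.w i, ← Category.assoc, hl, Over.w g]
  haveI : GeometricallyReduced I.hom := AVAmpleLib.gr_of_isReduced I.hom
  haveI : IsLocallyNoetherian I.left := LocallyOfFiniteType.isLocallyNoetherian I.hom
  haveI : IsReduced (I ⊗ I).left := inferInstanceAs (IsReduced (pullback I.hom I.hom))
  haveI : LocallyOfFiniteType (I ⊗ I).hom := inferInstanceAs (LocallyOfFiniteType (pullback.fst I.hom I.hom ≫ I.hom))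
  haveI : LocallyOfFiniteType (𝟙_ (Over (Spec (CommRingCat.of k)))).hom :=
    inferInstanceAs (LocallyOfFiniteType (𝟙 (Spec (CommRingCat.of k))))
  have hin : ∀ y : SGA7.Pts kb I, ∃ z, z ≫ s = bcEquiv kb G' (y ≫ i) := fun y => (hI _).1 ⟨y, rfl⟩
  have hinv : ∀ a : SGA7.Pts kb G', (∃ z, z ≫ s = bcEquiv kb G' a) → ∃ z, z ≫ s = bcEquiv kb G' a⁻¹ := fun a ha => by
    have := hmem 1 a h1 ha
    rwa [_root_.one_mul] at this
  obtain ⟨hIg, hi⟩ := Groth.Agent.SubDesc.exists_grpObj_of_mono i
    (hfac (I ⊗ I) _ inferInstance fun y => by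
      rw [MonObj.comp_mul, ← Category.assoc, ← Category.assoc]
      have := hmem _ _ (hin (y ≫ fst I I)) (hinv _ (hin (y ≫ snd I I)))
      rwa [inv_inv] at this)
    (hfac _ 1 (inferInstanceAs (IsReduced (Spec (CommRingCat.of k)))) fun y => by
      rw [MonObj.comp_one]; exact h1)
    (hfac _ _ inferInstance fun y => by rw [GrpObj.comp_inv]; exact hinv _ (hin y))
  haveI := hi
  refine ⟨I, inferInstance, i, hi, inferInstance, AlbLib.smooth_grp I, hI, ?_⟩
  -- the comparison over the algebraic closure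
  let m : GalTw.bcK kb I ⟶ GalTw.bcK kb G' := (GalTwLib.bcF k kb).map i
  haveI : Smooth I.hom := AlbLib.smooth_grp I
  haveI : Smooth (GalTw.bcK kb I).hom := inferInstanceAs (Smooth (pullback.snd I.hom t))
  haveI : IsReduced (GalTw.bcK kb I).left := AlgSpLib.isReduced_of_smooth (GalTw.bcK kb I).hom
  haveI : LocallyOfFiniteType (GalTw.bcK kb I).hom := inferInstanceAs (LocallyOfFiniteType (pullback.snd I.hom t))
  haveI : IsClosedImmersion m.left := SubSpecLib.isClosedImmersion_map t i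
  have hbc : ∀ y : SGA7.Pts kb I, bcEquiv kb G' (y ≫ i) = AVAmpleLib.bcPt kb y ≫ m := fun y =>
    AVAmpleLib.bcPt_comp kb y i
  obtain ⟨l, hl⟩ := AVAmpleLib.exists_lift_of_reduced s.left m.left (by
    rintro _ ⟨q, rfl⟩
    exact subset_of_secs (GalTw.bcK kb I) Set.univ (m.left ⁻¹' Set.range s.left) isClosed_univ
      (s.left.isClosedEmbedding.isClosed_range.preimage m.left.continuous) (fun z _ => by
        obtain ⟨y, rfl⟩ := (AVAmpleLib.bcPt_bijective (k := k) (X := I) kb).2 z
        obtain ⟨z', hz'⟩ := hin y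
        refine ⟨secPt z', ?_⟩
        show secPt (z' ≫ s) = secPt (AVAmpleLib.bcPt kb y ≫ m)
        rw [hz', hbc]) (Set.mem_univ q))
  let r : GalTw.bcK kb I ⟶ S := Over.homMk l (by rw [← Over.w s, ← Category.assoc, hl, Over.w m])
  have hrs : r ≫ s = m := Over.OverMorphism.ext hl
  haveI : IsClosedImmersion r.left := by
    haveI : IsClosedImmersion (r.left ≫ s.left) := by rw [← Over.comp_left, hrs]; infer_instance
    exact IsClosedImmersion.of_comp _ s.left
  refine ⟨r, hrs, ⟨fun q => ?_⟩, inferInstance⟩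
  exact subset_of_secs S Set.univ (Set.range r.left) isClosed_univ r.left.isClosedEmbedding.isClosed_range
    (fun z _ => by
      obtain ⟨w, hw⟩ := (hI ((bcEquiv kb G').symm (z ≫ s))).2 ⟨z, ((bcEquiv kb G').apply_symm_apply _).symm⟩
      haveI : Mono s := Over.mono_of_mono_left s
      refine ⟨secPt (AVAmpleLib.bcPt kb w), ?_⟩
      show secPt (AVAmpleLib.bcPt kb w ≫ r) = secPt z
      congr 1
      rw [← cancel_mono s, Category.assoc, hrs, ← hbc, hw, MulEquiv.apply_symm_apply]) (Set.mem_univ q)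

end UnipStabLib
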