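import Groth.Agent.S8020
import Groth.Agent.StackCountLib.Descent
import Groth.Agent.StackCountLib.Galois
import Groth.Agent.AVAmpleLib.BcTate
import Groth.Agent.AVAmpleLib.Dense
import Mathlib.FieldTheory.Normal.Basic

/-!
# Geometric points, their images and lifts
-/

set_option autoImplicit false
set_option linter.all false
set_option backward.isDefEq.respectTransparency false
set_option backward.isDefEq.respectTransparency.types false
set_option maxHeartbeats 800000

noncomputable section

universe u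

open CategoryTheory CategoryTheory.Limits MonoidalCategory CartesianMonoidalCategory MonObj AlgebraicGeometry
open Groth.Agent

attribute [-instance] CategoryTheory.Hom.commGroup

namespace UnipStabLib

variable {k : Type u} [Field k] (kb : Type u) [Field kb] [Algebra k kb]

/-- The group of geometric points, as sections of the base change. -/
def bcEquiv (G : Over (Spec (CommRingCat.of k))) [GrpObj G] :
    SGA7.Pts kb G ≃* (𝟙_ (Over (Spec (CommRingCat.of kb))) ⟶ GalTw.bcK kb G) :=
  MulEquiv.mk' (Equiv.ofBijective _ (AVAmpleLib.bcPt_bijective (k := k) (X := G) kb))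
    (fun a b => AVAmpleLib.bcPt_mul (k := k) (X := G) kb a b)

/-- The point of the scheme under a geometric point. -/
def ptOf {Y : Over (Spec (CommRingCat.of k))} (y : SGA7.Pts kb Y) : Y.left := y.left (IsLocalRing.closedPoint kb)

/-- The point under a section. -/
def secPt {K : Type u} [Field K] {Y : Over (Spec (CommRingCat.of K))}
    (z : 𝟙_ (Over (Spec (CommRingCat.of K))) ⟶ Y) : Y.left := z.left (IsLocalRing.closedPoint K)

variable {kb}

theorem ptOf_comp {Y Z : Over (Spec (CommRingCat.of k))} (y : SGA7.Pts kb Y) (f : Y ⟶ Z) :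
    ptOf kb (y ≫ f) = f.left (ptOf kb y) := rfl

theorem secPt_comp {K : Type u} [Field K] {Y Z : Over (Spec (CommRingCat.of K))}
    (z : 𝟙_ (Over (Spec (CommRingCat.of K))) ⟶ Y) (f : Y ⟶ Z) : secPt (z ≫ f) = f.left (secPt z) := rfl

theorem fst_secPt_bcPt {G : Over (Spec (CommRingCat.of k))} (y : SGA7.Pts kb G) :
    pullback.fst G.hom _ (secPt (AVAmpleLib.bcPt kb y)) = ptOf kb y := by
  have e : (AVAmpleLib.bcPt kb y).left ≫ pullback.fst G.hom _ = y.left := by
    rw [AVAmpleLib.bcPt_left, pullback.lift_fst]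
  exact congrArg (fun m : Spec (CommRingCat.of kb) ⟶ G.left => m (IsLocalRing.closedPoint kb)) e

theorem exists_sec {K : Type u} [Field K] [IsAlgClosed K] (Y : Over (Spec (CommRingCat.of K)))
    [LocallyOfFiniteType Y.hom] (p : Y.left) (hp : IsClosed ({p} : Set Y.left)) :
    ∃ z : 𝟙_ (Over (Spec (CommRingCat.of K))) ⟶ Y, secPt z = p := by
  refine ⟨Over.homMk (pointOfClosedPoint Y.hom p hp) (pointOfClosedPoint_comp _ _ _), ?_⟩
  show (pointOfClosedPoint Y.hom p hp) _ = p
  exact pointOfClosedPoint_apply _ _ _ _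

/-- A closed set containing the images of all sections contains everything. -/
theorem subset_of_secs {K : Type u} [Field K] [IsAlgClosed K] (Y : Over (Spec (CommRingCat.of K)))
    [LocallyOfFiniteType Y.hom] (C D : Set Y.left) (hC : IsClosed C) (hD : IsClosed D)
    (h : ∀ z : 𝟙_ (Over (Spec (CommRingCat.of K))) ⟶ Y, secPt z ∈ C → secPt z ∈ D) : C ⊆ D := by
  haveI : JacobsonSpace Y.left := LocallyOfFiniteType.jacobsonSpace Y.hom
  rw [← JacobsonSpace.closure_inter_closedPoints hC]
  refine closure_minimal ?_ hD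
  rintro p ⟨hp, hpc⟩
  obtain ⟨z, rfl⟩ := exists_sec Y p (mem_closedPoints_iff.1 hpc)
  exact h z hp

theorem exists_pts [IsAlgClosed kb] [Algebra.IsAlgebraic k kb] (Y : Over (Spec (CommRingCat.of k)))
    [LocallyOfFiniteType Y.hom] (p : Y.left) (hp : IsClosed ({p} : Set Y.left)) :
    ∃ y : SGA7.Pts kb Y, ptOf kb y = p := by
  obtain ⟨y, hy⟩ := Groth.Agent.S8020.exists_point_of_closed (K := kb) Y p hp
  exact ⟨y, hy _⟩

theorem subset_of_pts [IsAlgClosed kb] [Algebra.IsAlgebraic k kb] (Y : Over (Spec (CommRingCat.of k)))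
    [LocallyOfFiniteType Y.hom] (C D : Set Y.left) (hC : IsClosed C) (hD : IsClosed D)
    (h : ∀ y : SGA7.Pts kb Y, ptOf kb y ∈ C → ptOf kb y ∈ D) : C ⊆ D := by
  haveI : JacobsonSpace Y.left := LocallyOfFiniteType.jacobsonSpace Y.hom
  rw [← JacobsonSpace.closure_inter_closedPoints hC]
  refine closure_minimal ?_ hD
  rintro p ⟨hp, hpc⟩
  obtain ⟨y, rfl⟩ := exists_pts (kb := kb) Y p (mem_closedPoints_iff.1 hpc)
  exact h y hp

/-- A point landing in the image of a closed immersion factors through it. -/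
theorem exists_lift {K : Type u} [Field K] {S : Scheme.{u}} {T : Over S} {B Y : Over S} (i : B ⟶ Y)
    [IsClosedImmersion i.left] (g : Spec (CommRingCat.of K) ⟶ T.left) [IsIso g] (y : T ⟶ Y)
    (h : y.left (g (IsLocalRing.closedPoint K)) ∈ Set.range i.left) : ∃ z : T ⟶ B, z ≫ i = y := by
  haveI : Subsingleton T.left := (inv g).homeomorph.injective.subsingleton
  haveI : IsReduced T.left := isReduced_of_isOpenImmersion (inv g)
  obtain ⟨l, hl⟩ := AVAmpleLib.exists_lift_of_reduced (Z := T.left) i.left y.left (by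
    rintro _ ⟨p, rfl⟩
    rw [Subsingleton.elim p (g (IsLocalRing.closedPoint K))]
    exact h)
  refine ⟨Over.homMk l ?_, Over.OverMorphism.ext hl⟩
  rw [← Over.w i, ← Category.assoc, hl, Over.w y]

theorem exists_lift_pts {B Y : Over (Spec (CommRingCat.of k))} (i : B ⟶ Y) [IsClosedImmersion i.left]
    (y : SGA7.Pts kb Y) (h : ptOf kb y ∈ Set.range i.left) : ∃ z : SGA7.Pts kb B, z ≫ i = y :=
  exists_lift (T := SGA7.pt (K := k) kb) i (𝟙 (Spec (CommRingCat.of kb))) y h

theorem exists_lift_sec {K : Type u} [Field K] {B Y : Over (Spec (CommRingCat.of K))} (i : B ⟶ Y)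
    [IsClosedImmersion i.left] (y : 𝟙_ (Over (Spec (CommRingCat.of K))) ⟶ Y) (h : secPt y ∈ Set.range i.left) :
    ∃ z : 𝟙_ (Over (Spec (CommRingCat.of K))) ⟶ B, z ≫ i = y :=
  exists_lift (T := 𝟙_ (Over (Spec (CommRingCat.of K)))) i (𝟙 (Spec (CommRingCat.of K))) y h

/-- Geometric points with the same image are Galois conjugate. -/
theorem exists_smul_eq [IsAlgClosed kb] [Algebra.IsAlgebraic k kb] (Y : Over (Spec (CommRingCat.of k)))
    (y y' : SGA7.Pts kb Y) (h : ptOf kb y = ptOf kb y') : ∃ σ : kb ≃ₐ[k] kb, σ • y = y' := by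
  obtain ⟨j, hj⟩ := GeoPtLib.exists_residue_hom (K := kb) y.left (rfl : ptOf kb y = _)
  obtain ⟨j', hj'⟩ := GeoPtLib.exists_residue_hom (K := kb) y'.left (h.symm : ptOf kb y' = ptOf kb y)
  let p := ptOf kb y
  letI := (WeilLib.resMap Y.hom p).hom.toAlgebra
  have hc : ∀ (y : SGA7.Pts kb Y) (j : Y.left.residueField p ⟶ CommRingCat.of kb),
      y.left = Spec.map j ≫ Y.left.fromSpecResidueField p →
      ∀ r, j.hom (algebraMap k (Y.left.residueField p) r) = algebraMap k kb r := fun y j hy r => by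
    have e := Over.w y
    rw [hy, Category.assoc, ← WeilLib.SpecMap_resMap, ← Spec.map_comp] at e
    exact ConcreteCategory.congr_hom (Spec.map_injective e) r
  let a : Y.left.residueField p →ₐ[k] kb := { j.hom with commutes' := hc y j hj }
  let a' : Y.left.residueField p →ₐ[k] kb := { j'.hom with commutes' := hc y' j' hj' }
  let f : a.fieldRange →ₐ[k] kb := a'.comp (AlgEquiv.ofInjectiveField a).symm.toAlgHom
  obtain ⟨ψ, hψ⟩ : ∃ ψ : kb →ₐ[k] kb, ψ.comp a.fieldRange.val = f :=
    IntermediateField.exists_algHom_of_splits' f (fun s => ⟨Algebra.IsIntegral.isIntegral s, IsAlgClosed.splits _⟩)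
  let σ := AlgEquiv.ofBijective ψ (Algebra.IsAlgebraic.algHom_bijective ψ)
  refine ⟨σ, Over.OverMorphism.ext ?_⟩
  show Spec.map (CommRingCat.ofHom (σ : kb →+* kb)) ≫ y.left = y'.left
  rw [hj, hj', ← Category.assoc, ← Spec.map_comp]
  congr 2
  refine CommRingCat.hom_ext (RingHom.ext fun r => ?_)
  have h2 := AlgHom.congr_fun hψ ⟨a r, r, rfl⟩
  refine h2.trans ?_
  show a' ((AlgEquiv.ofInjectiveField a).symm ⟨a r, _⟩) = _
  rw [show (⟨a r, r, rfl⟩ : a.fieldRange) = AlgEquiv.ofInjectiveField a r from rfl, AlgEquiv.symm_apply_apply]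
  rfl

end UnipStabLib
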