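import Groth.Agent.UnipStabLib.Points
import Groth.Agent.UnipCountLib.Twist
import Groth.Agent.StackCountLib.GalCount
import Groth.Agent.StackCountLib.BCFib

/-!
# Geometric points of an inner twist
-/

set_option autoImplicit false
set_option linter.all false
set_option backward.isDefEq.respectTransparency false
set_option backward.isDefEq.respectTransparency.types false
set_option maxHeartbeats 1000000
set_option synthInstance.maxHeartbeats 400000

noncomputable section

universe u

open CategoryTheory CategoryTheory.Limits MonoidalCategory CartesianMonoidalCategory MonObj AlgebraicGeometry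
open Groth.Agent

attribute [-instance] CategoryTheory.Hom.commGroup

namespace UnipStabLib

open StackCountLib (down up down_up up_down down_id down_twHom)

variable {k : Type u} [Field k]

theorem innK_comp {K : Type u} [Field K] [Algebra k K] {G : Over (Spec (CommRingCat.of k))} [GrpObj G]
    (g g' : SGA7.Pts K G) : GalTw.innK K g' ≫ GalTw.innK K g = GalTw.innK K (g * g') := by
  refine UnipCountLib.down_ext ?_
  rw [StackCountLib.down_comp, UnipCountLib.down_innK, UnipCountLib.down_innK, UnipCountLib.down_innK]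
  simp only [MonObj.comp_mul, GrpObj.comp_inv, lift_snd_assoc, lift_fst]
  group

theorem innK_one {K : Type u} [Field K] [Algebra k K] {G : Over (Spec (CommRingCat.of k))} [GrpObj G] :
    GalTw.innK K (1 : SGA7.Pts K G) = 𝟙 _ := by
  refine UnipCountLib.down_ext ?_
  rw [UnipCountLib.down_innK, down_id, MonObj.comp_one, _root_.one_mul, inv_one, _root_.mul_one]

theorem twHom_innK {K : Type u} [Field K] [Algebra k K] {G : Over (Spec (CommRingCat.of k))} [GrpObj G]
    (σ : K ≃ₐ[k] K) (g : SGA7.Pts K G) : GalTw.twHom σ (GalTw.innK K g) = GalTw.innK K (σ • g) := by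
  refine UnipCountLib.down_ext ?_
  rw [down_twHom, UnipCountLib.down_innK, UnipCountLib.down_innK, MonObj.comp_mul, MonObj.comp_mul,
    GrpObj.comp_inv, whiskerLeft_fst, whiskerLeft_snd_assoc, GalTw.pts_smul_def]

theorem isMonHom_innK {K : Type u} [Field K] [Algebra k K] {G : Over (Spec (CommRingCat.of k))} [GrpObj G]
    (g : SGA7.Pts K G) : IsMonHom (GalTw.innK K g) := by
  refine ExtGm.isMonHom_of_mul _ fun Z a b => ?_
  simp only [GalTw.innK, MonObj.comp_mul, GrpObj.comp_inv, Category.comp_id, ← Category.assoc,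
    toUnit_unique _ (toUnit Z)]
  group

variable {kb : Type u} [Field kb] [Algebra k kb] [IsGalois k kb]
  (K : IntermediateField k kb) [FiniteDimensional k K] [Normal k K]

local notation "rs" => AlgEquiv.restrictNormalHom (F := k) (K₁ := kb) K

local notation "pt" => SGA7.pt (K := k) kb

local notation "vK" => StackCountLib.ptMap (IntermediateField.val K)

/-- The geometric inner twist. -/
theorem exists_inner_twist {G : Over (Spec (CommRingCat.of k))} [GrpObj G] [IsAffine G.left] [Smooth G.hom]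
    (z : GpH1.OneCocycle (K ≃ₐ[k] K) (SGA7.Pts K G)) :
    ∃ (G' : Over (Spec (CommRingCat.of k))) (_ : GrpObj G') (m : GalTw.bcK kb G' ≅ GalTw.bcK kb G)
      (_ : IsMonHom m.hom) (T : SGA7.Pts kb G' ≃* SGA7.Pts kb G),
      IsAffine G'.left ∧ LocallyOfFiniteType G'.hom ∧ (∀ y, bcEquiv kb G' y ≫ m.hom = bcEquiv kb G (T y)) ∧
      ∀ (σ : kb ≃ₐ[k] kb) (y : SGA7.Pts kb G'),
        T (σ • y) = StackCountLib.res (IntermediateField.val K) (z (rs σ)) * σ • T y *
          (StackCountLib.res (IntermediateField.val K) (z (rs σ)))⁻¹ := by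
  haveI : IsGalois k K := ⟨⟩
  let inn : SGA7.Pts K G →* Aut (GalTw.bcK K G) := MonoidHom.mk'
    (fun g => ⟨GalTw.innK K g, GalTw.innK K g⁻¹, by rw [innK_comp, inv_mul_cancel, innK_one],
      by rw [innK_comp, mul_inv_cancel, innK_one]⟩)
    (fun g g' => Iso.ext (by
      show GalTw.innK K (g * g') = GalTw.innK K g' ≫ GalTw.innK K g
      rw [innK_comp]))
  let a : GpH1.OneCocycle (K ≃ₐ[k] K) (Aut (GalTw.bcK K G)) := ⟨fun σ => inn (z σ), fun σ τ => by
    show inn (z (σ * τ)) = inn (z σ) * σ • inn (z τ)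
    rw [z.2, map_mul]
    congr 1
    exact Iso.ext (twHom_innK σ (z τ)).symm⟩
  obtain ⟨G', hG', hG'a, hG'l, φ, hφm, hφ⟩ := GalTwLib.exists_isGrpTwist (G₀ := G) a (fun σ => isMonHom_innK (z σ))
  haveI := hG'a; haveI := hG'l; haveI := hφm
  -- the isomorphism over the algebraic closure
  have hcomp : ∀ {A B C : Over (Spec (CommRingCat.of k))} (f : GalTw.bcK K A ⟶ GalTw.bcK K B)
      (f' : GalTw.bcK K B ⟶ GalTw.bcK K C),
      lift (lift (fst A pt) (snd A pt ≫ vK) ≫ down f) (snd A pt) ≫ lift (fst B pt) (snd B pt ≫ vK) ≫ down f' =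
        lift (fst A pt) (snd A pt ≫ vK) ≫ down (f ≫ f') := fun f f' => by
    rw [StackCountLib.down_comp, ← Category.assoc, ← Category.assoc, comp_lift, comp_lift, lift_fst, lift_snd_assoc,
      lift_snd]
  let fm : ∀ {A B : Over (Spec (CommRingCat.of k))}, (GalTw.bcK K A ⟶ GalTw.bcK K B) →
      (GalTw.bcK kb A ⟶ GalTw.bcK kb B) :=
    fun {A B} f => up (lift (fst A pt) (snd A pt ≫ vK) ≫ down f)
  have hfm : ∀ {A B C : Over (Spec (CommRingCat.of k))} (f : GalTw.bcK K A ⟶ GalTw.bcK K B)
      (f' : GalTw.bcK K B ⟶ GalTw.bcK K C), fm f ≫ fm f' = fm (f ≫ f') := fun {A B C} f f' => by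
    refine UnipCountLib.down_ext ?_
    rw [StackCountLib.down_comp, down_up, down_up, down_up, hcomp]
  have hid : ∀ A : Over (Spec (CommRingCat.of k)), fm (𝟙 (GalTw.bcK K A)) = 𝟙 _ := fun A => by
    refine UnipCountLib.down_ext ?_
    rw [down_up, down_id, down_id, lift_fst]
  let m : GalTw.bcK kb G' ≅ GalTw.bcK kb G :=
    ⟨fm φ.hom, fm φ.inv, by rw [hfm, φ.hom_inv_id, hid], by rw [hfm, φ.inv_hom_id, hid]⟩
  -- multiplicativity
  have hmul : ∀ {Y : Over (Spec (CommRingCat.of k))} (jj : Y ⟶ SGA7.pt (K := k) K) (a b : Y ⟶ G'),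
      lift (a * b) jj ≫ down φ.hom = (lift a jj ≫ down φ.hom) * (lift b jj ≫ down φ.hom) := fun {Y} jj a b => by
    let up' : (Y ⟶ G') → (GalTw.bcK K Y ⟶ GalTw.bcK K G') := fun c => up (fst Y _ ≫ c)
    have hup : up' (a * b) = up' a * up' b := by
      refine UnipCountLib.down_ext ?_
      rw [StackCountLib.down_mul, down_up, down_up, down_up, MonObj.comp_mul]
    have h : down (up' (a * b) ≫ φ.hom) = down (up' a ≫ φ.hom) * down (up' b ≫ φ.hom) := by
      rw [hup, MonObj.mul_comp, StackCountLib.down_mul]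
    have h' := congrArg (lift (𝟙 Y) jj ≫ ·) h
    simp only [StackCountLib.down_comp, MonObj.comp_mul, up', down_up, ← Category.assoc, comp_lift, lift_fst_assoc,
      lift_fst, lift_snd, Category.id_comp] at h'
    exact h'
  haveI : IsMonHom m.hom := ExtGm.isMonHom_of_mul _ fun Z a b => by
    let t := Spec.map (CommRingCat.ofHom (algebraMap k kb))
    let jj : (Over.map t).obj Z ⟶ SGA7.pt (K := k) K :=
      (Over.homMk Z.hom rfl : (Over.map t).obj Z ⟶ pt) ≫ vK
    have key : ∀ c : Z ⟶ GalTw.bcK kb G', (StackCountLib.BC.e Z).symm (c ≫ m.hom) =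
        lift ((StackCountLib.BC.e Z).symm c) jj ≫ down φ.hom := fun c => by
      have h1 : (StackCountLib.BC.e Z).symm (c ≫ m.hom) =
          lift ((StackCountLib.BC.e Z).symm c) (Over.homMk Z.hom rfl : (Over.map t).obj Z ⟶ pt) ≫ down m.hom := by
        refine Over.OverMorphism.ext ?_
        rw [Adjunction.homEquiv_counit]
        show (c.left ≫ m.hom.left) ≫ pullback.fst _ _ =
          pullback.lift (((StackCountLib.BC.e Z).symm c).left) Z.hom (Over.w ((StackCountLib.BC.e Z).symm c)) ≫ m.hom.left ≫ pullback.fst _ _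
        rw [Category.assoc]
        congr 1
        apply pullback.hom_ext
        · refine Eq.trans ?_ (pullback.lift_fst _ _ _).symm
          rw [Adjunction.homEquiv_counit]
          rfl
        · exact (Over.w c).trans (pullback.lift_snd _ _ _).symm
      rw [h1, down_up, ← Category.assoc, comp_lift, lift_fst, lift_snd_assoc]
    refine (StackCountLib.BC.e Z).symm.injective ?_
    have hm' : ∀ (H : Over (Spec (CommRingCat.of k))) [GrpObj H] (c c' : Z ⟶ GalTw.bcK kb H),
        (StackCountLib.BC.e Z).symm (c * c') = (StackCountLib.BC.e Z).symm c * (StackCountLib.BC.e Z).symm c' :=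
      fun H _ c c' => by
        rw [Equiv.symm_apply_eq, AlgGrp.Action.homEquiv_mul, Equiv.apply_symm_apply, Equiv.apply_symm_apply]
    rw [key, hm', hm', key, key, hmul]
  -- the map on points
  have hbc : ∀ {A B : Over (Spec (CommRingCat.of k))} (f : GalTw.bcK kb A ⟶ GalTw.bcK kb B) (y : SGA7.Pts kb A),
      AVAmpleLib.bcPt kb y ≫ f = AVAmpleLib.bcPt kb (StackCountLib.ptsApp f y) := fun {A B} f y => by
    refine Over.OverMorphism.ext (pullback.hom_ext ?_ ((Over.w (AVAmpleLib.bcPt kb y ≫ f)).trans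
      (Over.w (AVAmpleLib.bcPt kb (StackCountLib.ptsApp f y))).symm))
    have e1 : (AVAmpleLib.bcPt kb (StackCountLib.ptsApp f y)).left ≫ pullback.fst B.hom (SGA7.pt (K := k) kb).hom =
        (StackCountLib.ptsApp f y).left := by rw [AVAmpleLib.bcPt_left]; exact pullback.lift_fst _ _ _
    have e2 : (AVAmpleLib.bcPt kb y).left = (lift y (𝟙 pt)).left := by rw [AVAmpleLib.bcPt_left]; rfl
    rw [e1, Over.comp_left, e2]
    show (_ ≫ f.left) ≫ pullback.fst _ _ = (lift y (𝟙 pt)).left ≫ f.left ≫ pullback.fst _ _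
    rw [Category.assoc]
  let T : SGA7.Pts kb G' ≃* SGA7.Pts kb G := MulEquiv.mk' (StackCountLib.ptsEquiv m) fun y y' => by
    refine (bcEquiv kb G).injective ?_
    show AVAmpleLib.bcPt kb (StackCountLib.ptsApp m.hom (y * y')) = bcEquiv kb G (_ * _)
    rw [map_mul, ← hbc]
    show bcEquiv kb G' (y * y') ≫ m.hom =
      AVAmpleLib.bcPt kb (StackCountLib.ptsApp m.hom y) * AVAmpleLib.bcPt kb (StackCountLib.ptsApp m.hom y')
    rw [map_mul, MonObj.mul_comp, ← hbc, ← hbc]
    rfl
  have hT : ∀ y : SGA7.Pts kb G', T y = lift y vK ≫ down φ.hom := fun y => by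
    show lift y (𝟙 pt) ≫ down (up (lift (fst G' pt) (snd G' pt ≫ vK) ≫ down φ.hom)) = _
    rw [down_up, ← Category.assoc, comp_lift, lift_fst, lift_snd_assoc, Category.id_comp]
  refine ⟨G', hG', m, inferInstance, T, hG'a, hG'l, fun y => hbc m.hom y, fun σ y => ?_⟩
  have hv : SGA7.specAut σ ≫ vK = vK ≫ SGA7.specAut (rs σ) := by
    have h := StackCountLib.smul_res_val K (Y := SGA7.pt (K := k) K) σ (𝟙 _)
    simp only [GalTw.pts_smul_def, StackCountLib.res, Category.comp_id] at h
    exact h
  have hd : φ.hom = GalTw.twHom (rs σ) φ.hom ≫ GalTw.innK K (z (rs σ)) := by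
    have h := GalTw.cocycle_apply_hom φ (rs σ)
    rw [hφ (rs σ)] at h
    show φ.hom = GalTw.twHom (rs σ) φ.hom ≫ _
    rw [show GalTw.innK K (z (rs σ)) = (a (rs σ)).hom from rfl, h, ← GalTw.twIso_hom, Iso.hom_inv_id_assoc]
  have hσ : σ • T y = lift (σ • y) vK ≫ down (GalTw.twHom (rs σ) φ.hom) := by
    rw [hT, down_twHom, GalTw.pts_smul_def, GalTw.pts_smul_def, ← Category.assoc, ← Category.assoc, comp_lift,
      lift_whiskerLeft, hv]
  rw [hσ, hT]
  conv_lhs => rw [hd]
  rw [StackCountLib.down_comp, UnipCountLib.down_innK]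
  simp only [MonObj.comp_mul, GrpObj.comp_inv, ← Category.assoc, comp_lift, lift_fst, lift_snd]
  rfl

end UnipStabLib
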