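import Groth.Agent.UnipStabLib.Descend
import Groth.Agent.UnipStabLib.TwistGrp
import Groth.Agent.UnipStabLib.Comp
import Groth.Agent.UnipCountLib.Card
import Groth.Agent.LangGenLib.Cocycle

/-!
# The identity component of a stabiliser under a twisted Frobenius
-/

set_option autoImplicit false
set_option linter.all false
set_option backward.isDefEq.respectTransparency false
set_option backward.isDefEq.respectTransparency.types false
set_option maxHeartbeats 1000000
set_option synthInstance.maxHeartbeats 400000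

noncomputable section

universe u

open CategoryTheory CategoryTheory.Limits MonoidalCategory CartesianMonoidalCategory MonObj AlgebraicGeometry
open Groth.Agent Groth.Agent.GrpField

attribute [-instance] CategoryTheory.Hom.commGroup

namespace UnipStabLib

variable {k : Type u} [Field k] {kb : Type u} [Field kb] [Algebra k kb]

/-- The points of a subgroup over the algebraic closure. -/
def subHom {G : Over (Spec (CommRingCat.of k))} [GrpObj G] {S : Over (Spec (CommRingCat.of kb))} [GrpObj S]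
    (s : S ⟶ GalTw.bcK kb G) [IsMonHom s] :
    (𝟙_ (Over (Spec (CommRingCat.of kb))) ⟶ S) →* SGA7.Pts kb G :=
  MonoidHom.mk' (fun z => (bcEquiv kb G).symm (z ≫ s)) fun a b => by rw [MonObj.mul_comp, map_mul]

theorem subHom_eq {G : Over (Spec (CommRingCat.of k))} [GrpObj G] {S : Over (Spec (CommRingCat.of kb))} [GrpObj S]
    (s : S ⟶ GalTw.bcK kb G) [IsMonHom s] (z : 𝟙_ (Over (Spec (CommRingCat.of kb))) ⟶ S) (y : SGA7.Pts kb G) :
    subHom s z = y ↔ z ≫ s = bcEquiv kb G y :=
  (bcEquiv kb G).toEquiv.symm_apply_eq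

variable [Finite k] [IsAlgClosure k kb] (π₀ : kb ≃ₐ[k] kb) (hπ : ∀ x : kb, π₀ x = x ^ Nat.card k)

include hπ in
/-- The values at Frobenius of continuous cocycles, realised over finite subextensions. -/
theorem exists_cocycle (G : Over (Spec (CommRingCat.of k))) [GrpObj G] [LocallyOfFiniteType G.hom]
    [QuasiCompact G.hom] (g : SGA7.Pts kb G) :
    ∃ (K : IntermediateField k kb) (_ : FiniteDimensional k K) (_ : Normal k K)
      (z : GpH1.OneCocycle (K ≃ₐ[k] K) (SGA7.Pts K G)),
      StackCountLib.res (IntermediateField.val K) (z (AlgEquiv.restrictNormalHom (F := k) (K₁ := kb) K π₀)) = g := by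
  haveI : IsAlgClosed kb := IsAlgClosure.isAlgClosed k
  haveI : Algebra.IsAlgebraic k kb := IsAlgClosure.isAlgebraic
  haveI : Normal k kb := IsAlgClosure.normal k kb
  haveI : IsGalois k kb := ⟨⟩
  obtain ⟨hb, -⟩ := LangGenLib.cocycle_frob k kb π₀ hπ (SGA7.Pts kb G) LangGenLib.isOpen_stab
    LangGenLib.exists_finite_subgroup
  obtain ⟨Z, hZ⟩ := hb.2 g
  obtain ⟨K, hK₁, hK₂, hK₃⟩ := StackCountLib.exists_normal_field (fun _ : PUnit.{u+1} => Z)
  haveI := hK₁; haveI := hK₂
  choose sec hsec using StackCountLib.rs_surjective (kb := kb) K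
  have hdep : ∀ σ, Z.1 σ = Z.1 (sec (AlgEquiv.restrictNormalHom (F := k) (K₁ := kb) K σ)) := fun σ => by
    have hm : (sec (AlgEquiv.restrictNormalHom (F := k) (K₁ := kb) K σ))⁻¹ * σ ∈ K.fixingSubgroup :=
      StackCountLib.mem_fix_of_rs_eq_one K (by rw [map_mul, map_inv, hsec, inv_mul_cancel])
    conv_lhs => rw [← mul_inv_cancel_left (sec (AlgEquiv.restrictNormalHom (F := k) (K₁ := kb) K σ)) σ, Z.1.2,
      hK₃ PUnit.unit _ hm, smul_one, _root_.mul_one]
  have hval : ∀ σ, ∀ τ ∈ K.fixingSubgroup, τ • Z.1 σ = Z.1 σ := fun σ τ hτ => by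
    have h := Z.1.2 τ σ
    rw [hK₃ PUnit.unit τ hτ, _root_.one_mul] at h
    rw [← h, hdep (τ * σ), map_mul, StackCountLib.rs_eq_one K hτ, _root_.one_mul, ← hdep]
  choose y hy using fun σ => StackCountLib.exists_res_val K (hval σ)
  refine ⟨K, hK₁, hK₂, ⟨fun τ => y (sec τ), fun σ τ => ?_⟩, ?_⟩
  · refine StackCountLib.res_injective (IntermediateField.val K) G ?_
    show StackCountLib.res (IntermediateField.val K) (y (sec (σ * τ))) = StackCountLib.resHom (IntermediateField.val K) G (_ * _)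
    rw [map_mul]
    show _ = StackCountLib.res (IntermediateField.val K) (y (sec σ)) * StackCountLib.res (IntermediateField.val K) _
    have e : σ • y (sec τ) = AlgEquiv.restrictNormalHom (F := k) (K₁ := kb) K (sec σ) • y (sec τ) := by rw [hsec]
    rw [e, ← StackCountLib.smul_res_val, hy, hy, hy, ← Z.1.2]
    conv_rhs => rw [hdep, map_mul, hsec, hsec]
  · show StackCountLib.res (IntermediateField.val K) (y (sec _)) = g
    rw [hy, ← hdep]
    exact hZ

include hπ in
/-- Lang's theorem and point count on the identity component of a twisted stable subgroup. -/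
theorem zero_pts_twisted (G : Over (Spec (CommRingCat.of k))) [GrpObj G] [Smooth G.hom] [IsAffineHom G.hom]
    {S : Over (Spec (CommRingCat.of kb))} [GrpObj S] (s : S ⟶ GalTw.bcK kb G) [IsMonHom s]
    [IsClosedImmersion s.left] (hno : Red.HasNoSubtorus kb S) (d : ℕ)
    (hd : topologicalKrullDim ↥S.left = (d : WithBot ℕ∞)) (g : SGA7.Pts kb G)
    (hst : ∀ h ∈ (subHom s).range, g * π₀ • h * g⁻¹ ∈ (subHom s).range) :
    (∀ b ∈ (zeroPts S).map (subHom s), g * π₀ • b * g⁻¹ ∈ (zeroPts S).map (subHom s)) ∧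
    (∀ b ∈ (zeroPts S).map (subHom s), ∃ a ∈ (zeroPts S).map (subHom s), a * (g * π₀ • a * g⁻¹)⁻¹ = b) ∧
    Nat.card {a : ((zeroPts S).map (subHom s) : Subgroup _) // g * π₀ • (a : SGA7.Pts kb G) * g⁻¹ = a} =
      Nat.card k ^ d := by
  haveI : IsAlgClosed kb := IsAlgClosure.isAlgClosed k
  haveI : Algebra.IsAlgebraic k kb := IsAlgClosure.isAlgebraic
  haveI : Normal k kb := IsAlgClosure.normal k kb
  haveI : IsGalois k kb := ⟨⟩
  haveI : IsAffine G.left := isAffine_of_isAffineHom G.hom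
  obtain ⟨K, _, _, z, hz⟩ := exists_cocycle π₀ hπ G g
  obtain ⟨G', _, m, _, T, hG'a, hG'l, hmT, hT⟩ := exists_inner_twist (kb := kb) K z
  haveI := hG'a; haveI := hG'l
  haveI : IsAffineHom G'.hom := isAffineHom_of_isAffine G'.hom
  haveI : IsMonHom m.inv := inferInstance
  haveI : IsIso m.inv.left := ((Over.forget _).mapIso m).isIso_inv
  let s' : S ⟶ GalTw.bcK kb G' := s ≫ m.inv
  haveI : IsMonHom s' := inferInstanceAs (IsMonHom (s ≫ m.inv))
  haveI : IsClosedImmersion s'.left := by simp only [s', Over.comp_left]; infer_instance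
  have hπT : ∀ y, T (π₀ • y) = g * π₀ • T y * g⁻¹ := fun y => by rw [hT, hz]
  have hs' : ∀ (w : 𝟙_ (Over (Spec (CommRingCat.of kb))) ⟶ S) y, w ≫ s' = bcEquiv kb G' y ↔ subHom s w = T y :=
    fun w y => by
      rw [subHom_eq, ← hmT]
      show w ≫ s ≫ m.inv = _ ↔ _
      rw [← Category.assoc, Iso.comp_inv_eq]
  obtain ⟨I, _, i, _, hic, hIs, hI, r, hr, hrs, hrc⟩ := exists_descent π₀ hπ G' s' (fun y ⟨w, hw⟩ => by
    obtain ⟨w', hw'⟩ := hst _ ⟨w, rfl⟩
    refine ⟨w', (hs' _ _).2 ?_⟩
    rw [hw', hπT, (hs' _ _).1 hw])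
  haveI := hic; haveI := hIs; haveI := hrs; haveI := hrc
  haveI : LocallyOfFiniteType I.hom := inferInstance
  -- the identity component
  obtain ⟨G₀, hG₀, i₀, hi₀, hi₀c, -, hrange, hgi, hcomp⟩ := exists_identity_component (G := I)
  haveI := hi₀; haveI := hi₀c; haveI := hgi
  haveI : LocallyOfFiniteType G₀.hom := by rw [← Over.w i₀]; infer_instance
  obtain ⟨B, hB, j, hj, hjc, hBs, hsurj⟩ := SubSpecLib.RedSub.exists_smooth_reduction G₀
  haveI := hj; haveI := hjc; haveI := hBs
  haveI : Subsingleton ↥(Spec (CommRingCat.of k)) := inferInstanceAs (Subsingleton (PrimeSpectrum k))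
  haveI : IrreducibleSpace ↥G₀.left := GeometricallyIrreducible.irreducibleSpace_of_subsingleton G₀.hom
  let e : ↥B.left ≃ₜ ↥G₀.left :=
    (isHomeomorph_iff_isEmbedding_surjective.2 ⟨j.left.isClosedEmbedding.isEmbedding, hsurj⟩).homeomorph
  haveI : IrreducibleSpace ↥B.left := e.irreducibleSpace_iff.2 inferInstance
  let b : B ⟶ G' := (j ≫ i₀) ≫ i
  haveI : IsClosedImmersion (j ≫ i₀).left := by rw [Over.comp_left]; infer_instance
  haveI : IsClosedImmersion b.left := by simp only [b, Over.comp_left]; infer_instance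
  haveI : Mono b := Over.mono_of_mono_left b
  haveI : IsAffine B.left := isAffine_of_isAffineHom b.left
  have hjr : Set.range (j ≫ i₀).left = Z0 I := by
    rw [← hrange, Over.comp_left]
    ext p
    refine ⟨?_, ?_⟩
    · rintro ⟨q, rfl⟩; exact ⟨j.left q, rfl⟩
    · rintro ⟨q, rfl⟩; obtain ⟨q', rfl⟩ := hsurj q; exact ⟨q', rfl⟩
  let bK : GalTw.bcK kb B ⟶ GalTw.bcK kb I := (GalTwLib.bcF k kb).map (j ≫ i₀)
  haveI : IsMonHom bK := inferInstanceAs (IsMonHom ((GalTwLib.bcF k kb).map (j ≫ i₀)))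
  haveI : Mono s' := Over.mono_of_mono_left s'
  haveI : IsMonHom r := by
    refine ExtGm.isMonHom_of_mul r fun Z a c => ?_
    rw [← cancel_mono s', MonObj.mul_comp (g := s'), Category.assoc, Category.assoc, Category.assoc, hr, MonObj.mul_comp]
  let u : GalTw.bcK kb B ⟶ S := bK ≫ r
  haveI : IsMonHom u := inferInstanceAs (IsMonHom (bK ≫ r))
  have hus : u ≫ s' = (GalTwLib.bcF k kb).map b := by
    show (bK ≫ r) ≫ s' = _
    rw [Category.assoc, hr]
    exact ((GalTwLib.bcF k kb).map_comp (j ≫ i₀) i).symm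
  have hu : ∀ y : SGA7.Pts kb B, subHom s (AVAmpleLib.bcPt kb y ≫ u) = T (y ≫ b) := fun y => by
    rw [← hs', Category.assoc, hus]
    exact (AVAmpleLib.bcPt_comp kb y b).symm
  have hinjb : Function.Injective (fun y : SGA7.Pts kb B => T (y ≫ b)) := fun y y' h =>
    (cancel_mono b).1 (T.injective h)
  -- the points of the component are those of the identity component of the stabiliser
  have hpts : ∀ a, a ∈ (zeroPts S).map (subHom s) ↔ ∃ y : SGA7.Pts kb B, T (y ≫ b) = a := fun a => by
    refine ⟨?_, ?_⟩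
    · rintro ⟨w, hw, rfl⟩
      obtain ⟨y, hy⟩ := T.surjective (subHom s w)
      obtain ⟨y₀, rfl⟩ := (hI y).2 ⟨w, (hs' _ _).2 hy.symm⟩
      suffices h : ptOf kb y₀ ∈ Z0 I by
        obtain ⟨y₁, rfl⟩ := exists_lift_pts (j ≫ i₀) y₀ (hjr ▸ h)
        exact ⟨y₁, by rw [← hy]; simp only [b, Category.assoc]⟩
      haveI : Nonempty S.left := ⟨unitPt S⟩
      -- the image of the component of the stabiliser in the form
      let t := Spec.map (CommRingCat.ofHom (algebraMap k kb))
      have hinj : Function.Injective r.left := r.left.isClosedEmbedding.injective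
      let e' := (isHomeomorph_iff_isEmbedding_surjective.2
        ⟨r.left.isClosedEmbedding.isEmbedding, r.left.surjective⟩).homeomorph
      have hC := ((isPreconnected_connectedComponent (x := unitPt S)).image _ e'.symm.continuous.continuousOn).image _
        (pullback.fst I.hom t).continuous.continuousOn
      rw [← connectedComponent_unit]
      have hwZ : secPt w ∈ connectedComponent (unitPt S) := by rw [connectedComponent_unit]; exact hw
      refine hC.subset_connectedComponent ⟨e'.symm (unitPt S), ⟨_, mem_connectedComponent, rfl⟩, ?_⟩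
        ⟨e'.symm (secPt w), ⟨_, hwZ, rfl⟩, ?_⟩
      · have h1 : e'.symm (unitPt S) = secPt (AVAmpleLib.bcPt kb (1 : SGA7.Pts kb I)) := by
          apply hinj
          show e' (e'.symm (unitPt S)) = secPt (AVAmpleLib.bcPt kb (1 : SGA7.Pts kb I) ≫ r)
          rw [Homeomorph.apply_symm_apply, show AVAmpleLib.bcPt kb (1 : SGA7.Pts kb I) = bcEquiv kb I 1 from rfl,
            map_one, MonObj.one_comp, secPt_one]
        show pullback.fst I.hom t (e'.symm (unitPt S)) = unitPt I
        rw [h1]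
        refine (fst_secPt_bcPt (1 : SGA7.Pts kb I)).trans ?_
        rw [Hom.one_def]
        exact congrArg _ (Subsingleton.elim (α := PrimeSpectrum k) _ _)
      · have h1 : e'.symm (secPt w) = secPt (AVAmpleLib.bcPt kb y₀) := by
          apply hinj
          show e' (e'.symm (secPt w)) = secPt (AVAmpleLib.bcPt kb y₀ ≫ r)
          rw [Homeomorph.apply_symm_apply]
          congr 1
          rw [← cancel_mono s', Category.assoc, hr, (hs' w _).2 hy.symm]
          exact AVAmpleLib.bcPt_comp kb y₀ i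
        show pullback.fst I.hom t (e'.symm (secPt w)) = ptOf kb y₀
        rw [h1]
        exact fst_secPt_bcPt y₀
    · rintro ⟨y, rfl⟩
      refine ⟨AVAmpleLib.bcPt kb y ≫ u, ?_, hu y⟩
      haveI : ConnectedSpace ↥(GalTw.bcK kb B).left :=
        Groth.Agent.SepRad.connectedSpace_bc B (Spec.map (CommRingCat.ofHom (algebraMap k kb)))
      show secPt (AVAmpleLib.bcPt kb y ≫ u) ∈ Z0 S
      rw [← connectedComponent_unit]
      refine (isPreconnected_univ.image _ u.left.continuous.continuousOn).subset_connectedComponent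
        ⟨secPt (AVAmpleLib.bcPt kb (1 : SGA7.Pts kb B)), trivial, ?_⟩ ⟨_, trivial, rfl⟩
      show secPt (AVAmpleLib.bcPt kb (1 : SGA7.Pts kb B) ≫ u) = _
      rw [show AVAmpleLib.bcPt kb (1 : SGA7.Pts kb B) = bcEquiv kb B 1 from rfl, map_one, MonObj.one_comp, secPt_one]
  have hbπ : ∀ y : SGA7.Pts kb B, g * π₀ • T (y ≫ b) * g⁻¹ = T ((π₀ • y) ≫ b) := fun y => by
    rw [← hπT]
    simp only [GalTw.pts_smul_def, Category.assoc]
  refine ⟨fun a ha => ?_, fun a ha => ?_, ?_⟩
  · obtain ⟨y, rfl⟩ := (hpts a).1 ha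
    exact (hpts _).2 ⟨π₀ • y, (hbπ y).symm⟩
  · obtain ⟨y, rfl⟩ := (hpts a).1 ha
    obtain ⟨x, hx⟩ := UnipCountLib.exists_lang k kb π₀ hπ B y
    refine ⟨_, (hpts _).2 ⟨x, rfl⟩, ?_⟩
    rw [hbπ, ← map_inv, ← map_mul, ← hx, MonObj.mul_comp, GrpObj.inv_comp]
  · have hno' : Red.HasNoSubtorus kb (GalTw.bcK kb B) := fun T₁ _ j₁ _ _ hT₁ => by
      haveI : Mono r := Over.mono_of_mono_left r
      haveI : Mono (j ≫ i₀) := Over.mono_of_mono_left (j ≫ i₀)
      haveI : Mono bK := inferInstanceAs (Mono ((GalTwLib.bcF k kb).map (j ≫ i₀)))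
      exact hno T₁ (j₁ ≫ u) hT₁
    have hdB : topologicalKrullDim ↥B.left = (d : WithBot ℕ∞) := by
      rw [e.isHomeomorph.topologicalKrullDim_eq,
        i₀.left.isClosedEmbedding.isEmbedding.toHomeomorph.isHomeomorph.topologicalKrullDim_eq, hrange,
        (Groth.Agent.S5341.result k I).1 _ (Z0_mem_components I),
        ← FibDimLib.topologicalKrullDim_pullback_field k kb I.hom, ← hd]
      exact IsHomeomorph.topologicalKrullDim_eq _ (isHomeomorph_iff_isEmbedding_surjective.2
        ⟨r.left.isClosedEmbedding.isEmbedding, r.left.surjective⟩)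
    rw [← UnipCountLib.card_pts kb d B hno' hdB, ← UnipCountLib.card_fixed π₀ hπ B]
    refine (Nat.card_congr (Equiv.ofBijective
      (fun y => ⟨⟨T (y.1 ≫ b), (hpts _).2 ⟨y.1, rfl⟩⟩, by
        show g * π₀ • T (y.1 ≫ b) * g⁻¹ = T (y.1 ≫ b)
        rw [hbπ, y.2]⟩) ⟨?_, ?_⟩)).symm
    · intro y y' h
      exact Subtype.ext (hinjb (congrArg (fun q => q.1.1) h))
    · rintro ⟨⟨a, ha⟩, ha'⟩
      obtain ⟨y, rfl⟩ := (hpts a).1 ha
      change g * π₀ • T (y ≫ b) * g⁻¹ = T (y ≫ b) at ha'
      rw [hbπ] at ha'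
      exact ⟨⟨y, hinjb ha'⟩, rfl⟩

end UnipStabLib
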